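import Cfsg.Agent.OddHalf.D7An.TwoInst
import Cfsg.Agent.OddHalf.D7Ex.SetupOf
import Cfsg.Agent.KFacts.SLRow.Psl
import Cfsg.Agent.OddHalf.SL.Index

/-!
# `L_n(2)`, `n ≥ 5`: the doubled root group at one root (ODD D7; helper991)

`e : PSL_{n+1}(F) →* G` injective, `|F| = 2`, `n ≥ 4`, root groups `XG e x`, root `rtA a b`.
-/

set_option autoImplicit false
set_option linter.unusedSectionVars false

namespace Cfsg.Agent.OddHalf.D7An.LocOf

open Matrix Subgroup CoxeterSystem Cfsg.Agent.ChevalleyStructure.CoxeterGeom Cfsg.Agent.Tits.Roots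
  Cfsg.Agent.Tits.Core Cfsg.Agent.Nodes.Reps Cfsg.Agent.Nodes.BNOf Cfsg.Agent.Nodes.Coroot
  Cfsg.Agent.Nodes.RootsA Cfsg.Agent.Nodes.RGDTypeA Cfsg.Agent.Nodes.CommA
  Cfsg.Agent.OddHalf.SL.Index Cfsg.Agent.OddHalf.SL.Defs
  Cfsg.Agent.OddHalf.D7Ex Cfsg.Agent.OddHalf.D7An.Mat Cfsg.Agent.OddHalf.D7An.Two
  Cfsg.Agent.OddHalf.D7An.TwoInst
open Cfsg.Agent.LieRecognition.BNCox (cA)
open Cfsg.Agent.TitsThree.KSideA (tv tv_of_ne tv_add tv_zero tv_neg)

section AB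

variable {ι F : Type*} [Field F] [DecidableEq ι] [Fintype ι]

/-- `B e_a = e_a` for `B = 1 + u e_b*`. -/
theorem BM_fix {a b : ι} (hab : a ≠ b) {u : ι → F} (hu : u b = 0) :
    (Tr u (Pi.single b 1)).1 *ᵥ (Pi.single a 1 : ι → F) = Pi.single a 1 := by
  rw [Tr_mulVec (by rw [single_dot, hu]), single_dot, Pi.single_eq_of_ne hab.symm, zero_smul, add_zero]

/-- `{(1 + e_a φ)(1 + u e_b*)}` -/
def AB (F : Type*) [Field F] {a b : ι} (hab : a ≠ b) : Subgroup (SpecialLinearGroup ι F) where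
  carrier := {g | ∃ φ u : ι → F, φ a = 0 ∧ u b = 0 ∧ g = Tr (Pi.single a 1) φ * Tr u (Pi.single b 1)}
  one_mem' := ⟨0, 0, rfl, rfl, by rw [Tr_zero, Tr_zero', one_mul]⟩
  mul_mem' := by
    rintro _ _ ⟨φ, u, h1, h2, rfl⟩ ⟨φ', u', h1', h2', rfl⟩
    obtain ⟨e1, e2⟩ := conj_AM (BM_fix hab h2) h1'
    refine ⟨φ + φ' ᵥ* ((Tr u (Pi.single b 1))⁻¹).1, u + u', by rw [Pi.add_apply, h1, e2, add_zero],
      by rw [Pi.add_apply, h2, h2', add_zero], ?_⟩
    rw [← Tr_mul (by rw [dot_single, h1]) (by rw [dot_single, e2]), ← e1,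
      ← Tr_mul' (by rw [single_dot, h2]) (by rw [single_dot, h2'])]
    group
  inv_mem' := by
    rintro _ ⟨φ, u, h1, h2, rfl⟩
    have h1' : (-φ) a = 0 := by rw [Pi.neg_apply, h1, neg_zero]
    have h2' : (-u) b = 0 := by rw [Pi.neg_apply, h2, neg_zero]
    obtain ⟨e1, e2⟩ := conj_AM (BM_fix hab h2') h1'
    refine ⟨_, -u, e2, h2', ?_⟩
    rw [← e1, Tr_neg (by rw [dot_single, h1]), Tr_neg' (by rw [single_dot, h2])]
    group

theorem mem_AB {a b : ι} (hab : a ≠ b) {g : SpecialLinearGroup ι F} : g ∈ AB F hab ↔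
    ∃ φ u : ι → F, φ a = 0 ∧ u b = 0 ∧ g = Tr (Pi.single a 1) φ * Tr u (Pi.single b 1) := Iff.rfl

theorem tv_mem_AB {a b : ι} (hab : a ≠ b) {j : ι} (hj : a ≠ j) (c : F) : tv a j c ∈ AB F hab :=
  ⟨Pi.single j c, 0, Pi.single_eq_of_ne hj _, rfl, by rw [Tr_zero', mul_one, tv_eq hj]⟩

theorem tv_eq' {i b : ι} (hib : i ≠ b) (c : F) : tv i b c = Tr (Pi.single i c) (Pi.single b 1) := by
  rw [tv_eq hib]
  apply slext
  rw [Tr_val, Tr_val]
  · ext k l
    simp only [Matrix.add_apply, vecMulVec_apply, Pi.single_apply]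
    by_cases h1 : k = i <;> by_cases h2 : l = b <;> simp [h1, h2]
  · rw [single_dotProduct, Pi.single_eq_of_ne hib.symm, mul_zero]
  · rw [single_dotProduct, Pi.single_eq_of_ne hib.symm, mul_zero]

theorem tv_mem_AB' {a b : ι} (hab : a ≠ b) {i : ι} (hi : i ≠ b) (c : F) : tv i b c ∈ AB F hab :=
  ⟨0, Pi.single i c, rfl, Pi.single_eq_of_ne hi.symm _, by rw [Tr_zero, one_mul, tv_eq' hi]⟩

end AB

variable {n : ℕ} {F : Type*} [Field F] {G : Type*} [Group G]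

/-- The root groups in `G`. -/
def XG (e : ProjectiveSpecialLinearGroup (Fin (n + 1)) F →* G) (x : Fin n → ℤ) : Subgroup G :=
  ((Cfsg.Agent.Nodes.RGDTypeA.X F x).map (pr n F)).map e

theorem mem_XG {e : ProjectiveSpecialLinearGroup (Fin (n + 1)) F →* G} {a b : Fin (n + 1)} (hab : a ≠ b) {g : G} :
    g ∈ XG e (rtA a b) ↔ ∃ c : F, g = e.comp (pr n F) (tv a b c) := by
  unfold XG
  rw [X_rtA hab]
  constructor
  · rintro ⟨_, ⟨_, ⟨c, rfl⟩, rfl⟩, rfl⟩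
    exact ⟨c, rfl⟩
  · rintro ⟨c, rfl⟩
    exact ⟨_, ⟨_, ⟨c, rfl⟩, rfl⟩, rfl⟩

variable {W : Type*} [Group W] [Finite W] (cs : CoxeterSystem (cA n) W) {A : Fin n → Fin n → ℤ}
  (h : IsCartan (cA n) A)

include cs in
theorem bf_rtA (h : IsCartan (cA n) A) (a b : Fin (n + 1)) {c d : Fin (n + 1)} (hcd : c ≠ d) :
    Bf A (rtA a b) (rtA c d) = (if a = c then 1 else 0) - (if a = d then 1 else 0) -
      ((if b = c then 1 else 0) - (if b = d then 1 else 0)) := by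
  rw [bf_eq_cpr (cs := cs) (h := h) (fun i j => (KFacts.SLRow.Psl.cA_ne i j).1)
    (fun i j => (KFacts.SLRow.Psl.cA_ne i j).2) _ (isRoot_rtA cs h hcd), cpr_rtA cs h a b hcd]

include cs h in
/-- `(rtA i j, rtA a b) ≥ 0` -/
theorem bf_nonneg {i j a b : Fin (n + 1)} (hij : i ≠ j) (hab : a ≠ b) :
    0 ≤ Bf A (rtA i j) (rtA a b) ↔ j ≠ a ∧ i ≠ b := by
  rw [bf_rtA cs h i j hab]
  simp only [Fin.ext_iff, ne_eq] at *
  split_ifs <;> omega

include cs h in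
/-- `(rtA i j, rtA a b) = 1` -/
theorem bf_one {i j a b : Fin (n + 1)} (hij : i ≠ j) (hab : a ≠ b) :
    Bf A (rtA i j) (rtA a b) = 1 ↔ (i = a ∧ j ≠ b) ∨ (i ≠ a ∧ j = b) := by
  rw [bf_rtA cs h i j hab]
  simp only [Fin.ext_iff, ne_eq] at *
  split_ifs <;> omega

variable (hF : ∀ x : F, x = 0 ∨ x = 1)

include hF in
theorem pr_injective : Function.Injective (pr n F) := by
  rw [injective_iff_map_eq_one]
  intro g hg
  rw [← MonoidHom.mem_ker, ker_pr, Matrix.SpecialLinearGroup.mem_center_iff] at hg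
  obtain ⟨c, hc, e⟩ := hg
  have hc0 : c ≠ 0 := by
    rintro rfl
    rw [zero_pow (by simp)] at hc
    exact zero_ne_one hc
  have hc1 := (hF c).resolve_left hc0
  apply slext
  have e' : Matrix.scalar (Fin (n + 1)) c = g.1 := e
  rw [← e', hc1, map_one]
  rfl

section

variable {e : ProjectiveSpecialLinearGroup (Fin (n + 1)) F →* G} {a b : Fin (n + 1)} (hab : a ≠ b)

include hab

include h in
theorem Q_le : QS (XG e) (Ph1 (Bf A) {x | IsRoot cs h x} (rtA a b)) (rtA a b) ≤ (AB F hab).map (e.comp (pr n F)) := by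
  refine QS_le ?_ ?_
  · intro x hx
    obtain ⟨c, rfl⟩ := (mem_XG hab).1 hx
    exact ⟨_, tv_mem_AB hab hab c, rfl⟩
  · rintro x ⟨hx, hx1⟩ y hy
    obtain ⟨i, j, hij, rfl⟩ := exists_of_isRoot cs h hx
    obtain ⟨c, rfl⟩ := (mem_XG hij).1 hy
    rcases (bf_one cs h hij hab).1 hx1 with ⟨rfl, -⟩ | ⟨-, rfl⟩
    · exact ⟨_, tv_mem_AB hab hij c, rfl⟩
    · exact ⟨_, tv_mem_AB' hab hij c, rfl⟩

include h in
theorem mem_Q {φ : Fin (n + 1) → F} (h1 : φ a = 0) :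
    e.comp (pr n F) (Tr (Pi.single a 1) φ) ∈ QS (XG e) (Ph1 (Bf A) {x | IsRoot cs h x} (rtA a b)) (rtA a b) := by
  have : Tr (Pi.single a 1) φ ∈ (QS (XG e) (Ph1 (Bf A) {x | IsRoot cs h x} (rtA a b)) (rtA a b)).comap
      (e.comp (pr n F)) := by
    refine Tr_single_mem (S := Finset.univ.erase a) (Finset.notMem_erase a _) ?_ ?_
    · intro j hj c
      have hja := (Finset.ne_of_mem_erase hj).symm
      rw [mem_comap]
      by_cases hjb : j = b
      · rw [hjb]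
        exact X_le_QS _ _ _ ((mem_XG hab).2 ⟨c, rfl⟩)
      · exact le_QS (XG e) (S := Ph1 (Bf A) {x | IsRoot cs h x} (rtA a b)) _ (b := rtA a j) ⟨isRoot_rtA cs h hja,
          (bf_one cs h hja hab).2 (Or.inl ⟨rfl, hjb⟩)⟩ ((mem_XG hja).2 ⟨c, rfl⟩)
    · intro j hj
      have : j = a := by
        by_contra hne
        exact hj (Finset.mem_erase.2 ⟨hne, Finset.mem_univ j⟩)
      rw [this, h1]
  exact this

include h in
theorem mem_Q' {u : Fin (n + 1) → F} (h2 : u b = 0) :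
    e.comp (pr n F) (Tr u (Pi.single b 1)) ∈ QS (XG e) (Ph1 (Bf A) {x | IsRoot cs h x} (rtA a b)) (rtA a b) := by
  have : Tr u (Pi.single b 1) ∈ (QS (XG e) (Ph1 (Bf A) {x | IsRoot cs h x} (rtA a b)) (rtA a b)).comap
      (e.comp (pr n F)) := by
    refine Tr_single_mem' (S := Finset.univ.erase b) (Finset.notMem_erase b _) ?_ ?_
    · intro i hi c
      have hib := Finset.ne_of_mem_erase hi
      rw [mem_comap]
      by_cases hia : i = a
      · rw [hia]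
        exact X_le_QS _ _ _ ((mem_XG hab).2 ⟨c, rfl⟩)
      · exact le_QS (XG e) (S := Ph1 (Bf A) {x | IsRoot cs h x} (rtA a b)) _ (b := rtA i b) ⟨isRoot_rtA cs h hib,
          (bf_one cs h hib hab).2 (Or.inr ⟨hia, rfl⟩)⟩ ((mem_XG hib).2 ⟨c, rfl⟩)
    · intro j hj
      have : j = b := by
        by_contra hne
        exact hj (Finset.mem_erase.2 ⟨hne, Finset.mem_univ j⟩)
      rw [this, h2]
  exact this

end

/-- The stabiliser of `e_a` and `e_b*`. -/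
def St (F : Type*) [Field F] (a b : Fin (n + 1)) : Subgroup (SpecialLinearGroup (Fin (n + 1)) F) where
  carrier := {g | g.1 *ᵥ (Pi.single a 1 : Fin (n + 1) → F) = Pi.single a 1 ∧
    (Pi.single b 1 : Fin (n + 1) → F) ᵥ* g.1 = Pi.single b 1}
  one_mem' := ⟨by
    show (1 : Matrix (Fin (n + 1)) (Fin (n + 1)) F) *ᵥ _ = _
    rw [one_mulVec], by
    show _ ᵥ* (1 : Matrix (Fin (n + 1)) (Fin (n + 1)) F) = _
    rw [vecMul_one]⟩
  mul_mem' := by
    rintro g k ⟨h1, h2⟩ ⟨h3, h4⟩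
    refine ⟨?_, ?_⟩
    · rw [mulv, ← mulVec_mulVec, h3, h1]
    · rw [mulv, ← vecMul_vecMul, h2, h4]
  inv_mem' := by
    rintro g ⟨h1, h2⟩
    exact ⟨inv_fix' h1, inv_fix h2⟩

theorem tv_mem_St {a b i j : Fin (n + 1)} (hij : i ≠ j) (hja : j ≠ a) (hib : i ≠ b) (c : F) :
    tv i j c ∈ St F a b := by
  constructor
  · have h0 : (Pi.single j c : Fin (n + 1) → F) ⬝ᵥ Pi.single i 1 = 0 := by
      rw [dot_single, Pi.single_eq_of_ne hij]
    have h1 : (Pi.single j c : Fin (n + 1) → F) a = 0 := Pi.single_eq_of_ne hja.symm _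
    rw [tv_eq hij, Tr_mulVec h0, dot_single, h1, zero_smul, add_zero]
  · have h0 : (Pi.single j 1 : Fin (n + 1) → F) ⬝ᵥ Pi.single i c = 0 := by
      rw [single_dot, Pi.single_eq_of_ne hij.symm]
    have h1 : (Pi.single i c : Fin (n + 1) → F) b = 0 := Pi.single_eq_of_ne hib.symm _
    rw [tv_eq' hij, vecMul_Tr h0, single_dot, h1, zero_smul, add_zero]

include h in
theorem P_le {e : ProjectiveSpecialLinearGroup (Fin (n + 1)) F →* G} {a b : Fin (n + 1)} (hab : a ≠ b) :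
    PR (Bf A) {x | IsRoot cs h x} (XG e) (rtA a b) ≤ (St F a b).map (e.comp (pr n F)) := by
  refine PR_le ?_
  intro x hx hx0 y hy
  obtain ⟨i, j, hij, rfl⟩ := exists_of_isRoot cs h hx
  obtain ⟨c, rfl⟩ := (mem_XG hij).1 hy
  obtain ⟨hja, hib⟩ := (bf_nonneg cs h hij hab).1 hx0
  exact ⟨_, tv_mem_St hij hja hib c, rfl⟩

include hF in
/-- The groups of `TwoInst.Loc`. -/
theorem loc {e : ProjectiveSpecialLinearGroup (Fin (n + 1)) F →* G} {a b : Fin (n + 1)} (hab : a ≠ b) :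
    Loc (e.comp (pr n F)) a b (XG e (rtA a b))
      (QS (XG e) (Ph1 (Bf A) {x | IsRoot cs h x} (rtA a b)) (rtA a b))
      (PR (Bf A) {x | IsRoot cs h x} (XG e) (rtA a b)) := by
  refine ⟨fun x => ?_, fun q => ⟨fun hq => ?_, ?_⟩, fun i j hij hja hib c => ?_, fun p hp => ?_⟩
  · rw [mem_XG hab]
    constructor
    · rintro ⟨c, rfl⟩
      rcases hF c with rfl | rfl
      · left; rw [tv_zero, map_one]
      · right; rw [tv_eq hab]
    · rintro (rfl | rfl)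
      · exact ⟨0, by rw [tv_zero, map_one]⟩
      · exact ⟨1, by rw [tv_eq hab]⟩
  · obtain ⟨_, ⟨φ, u, h1, h2, rfl⟩, rfl⟩ := Q_le cs h hab hq
    exact ⟨φ, u, h1, h2, rfl⟩
  · rintro ⟨φ, u, h1, h2, rfl⟩
    rw [map_mul]
    exact mul_mem (mem_Q cs h hab h1) (mem_Q' cs h hab h2)
  · exact le_PR (XG e) (isRoot_rtA cs h hij) ((bf_nonneg cs h hij hab).2 ⟨hja, hib⟩) ((mem_XG hij).2 ⟨c, rfl⟩)
  · obtain ⟨g, ⟨h1, h2⟩, rfl⟩ := P_le cs h hab hp
    exact ⟨g, rfl, h1, h2⟩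

/-! ### Combinatorics -/

theorem exists_avoid (hn : 4 ≤ n) (a b c d : Fin (n + 1)) : ∃ i : Fin (n + 1), i ≠ a ∧ i ≠ b ∧ i ≠ c ∧ i ≠ d := by
  by_contra hcon
  push Not at hcon
  have h1 : (Finset.univ : Finset (Fin (n + 1))) ⊆ {a, b, c, d} := by
    intro i _
    simp only [Finset.mem_insert, Finset.mem_singleton]
    by_contra h2
    push Not at h2
    exact h2.2.2.2 (hcon i h2.1 h2.2.1 h2.2.2.1)
  have h2 := Finset.card_le_card h1
  have h3 : ({a, b, c, d} : Finset (Fin (n + 1))).card ≤ 4 := Finset.card_le_four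
  rw [Finset.card_univ, Fintype.card_fin] at h2
  omega

include hF h in
theorem pt (hn : 4 ≤ n) {e : ProjectiveSpecialLinearGroup (Fin (n + 1)) F →* G} {a b : Fin (n + 1)} (hab : a ≠ b) :
    PT (Bf A) {x | IsRoot cs h x} (XG e) (rtA a b) (PR (Bf A) {x | IsRoot cs h x} (XG e) (rtA a b)) where
  sep := by
    rintro x ⟨hx, hx1⟩ x' ⟨hx', hx1'⟩ hne
    obtain ⟨i, j, hij, rfl⟩ := exists_of_isRoot cs h hx
    obtain ⟨i', j', hij', rfl⟩ := exists_of_isRoot cs h hx'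
    have key : ∀ k l : Fin (n + 1), k ≠ l → k ≠ a → k ≠ b → l ≠ a → l ≠ b →
        Bf A (rtA i j) (rtA k l) = 1 → Bf A (rtA i' j') (rtA k l) ≠ 1 →
        ∃ d ∈ {x | IsRoot cs h x}, XG e d ≤ PR (Bf A) {x | IsRoot cs h x} (XG e) (rtA a b) ∧ Bf A d (rtA a b) = 0 ∧
          Bf A (rtA i j) d = 1 ∧ Bf A (rtA i' j') d ≠ 1 := by
      intro k l hkl h1 h2 h3 h4 h5 h6
      refine ⟨rtA k l, isRoot_rtA cs h hkl, ?_, ?_, h5, h6⟩
      · exact le_PR (XG e) (isRoot_rtA cs h hkl) ((bf_nonneg cs h hkl hab).2 ⟨h3, h2⟩)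
      · rw [bf_rtA cs h k l hab, if_neg h1, if_neg h2, if_neg h3, if_neg h4]
        norm_num
    have hne' : ¬ (i' = i ∧ j' = j) := by
      rintro ⟨rfl, rfl⟩
      exact hne rfl
    rcases (bf_one cs h hij hab).1 hx1 with ⟨rfl, hj⟩ | ⟨hi, rfl⟩
    · obtain ⟨k, hk1, hk2, hk3, hk4⟩ := exists_avoid hn i b j i'
      refine key k j hk3 hk1 hk2 hij.symm hj ?_ ?_
      · rw [bf_rtA cs h i j hk3, if_neg hk1.symm, if_neg hij, if_neg hk3.symm, if_pos rfl]
        norm_num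
      · rw [bf_rtA cs h i' j' hk3, if_neg hk4.symm]
        rcases (bf_one cs h hij' hab).1 hx1' with ⟨rfl, hj'⟩ | ⟨hi', rfl⟩
        · rw [if_neg (show ¬ j' = j from fun e => hne' ⟨rfl, e⟩), if_neg hij]
          split_ifs <;> norm_num
        · rw [if_neg hk2.symm, if_neg hj.symm]
          split_ifs <;> norm_num
    · obtain ⟨k, hk1, hk2, hk3, hk4⟩ := exists_avoid hn a j i j'
      refine key i k hk3.symm hi hij hk1 hk2 ?_ ?_
      · rw [bf_rtA cs h i j hk3.symm, if_pos rfl, if_neg hk3.symm, if_neg hij.symm, if_neg hk2.symm]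
        norm_num
      · rw [bf_rtA cs h i' j' hk3.symm, if_neg hk4.symm]
        rcases (bf_one cs h hij' hab).1 hx1' with ⟨rfl, hj'⟩ | ⟨hi', rfl⟩
        · rw [if_neg hi.symm, if_neg hk1.symm]
          split_ifs <;> norm_num
        · rw [if_neg (show ¬ i' = i from fun e => hne' ⟨e, rfl⟩), if_neg hij.symm]
          split_ifs <;> norm_num
  tor := by
    rintro x ⟨hx, hx1⟩ y hy z hz hy1 hz1
    refine ⟨1, one_mem _, ?_⟩
    obtain ⟨i, j, hij, rfl⟩ := exists_of_isRoot cs h hx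
    obtain ⟨c, rfl⟩ := (mem_XG hij).1 hy
    obtain ⟨d, rfl⟩ := (mem_XG hij).1 hz
    have hc : c ≠ 0 := by
      rintro rfl
      exact hy1 (by rw [tv_zero, map_one])
    have hd : d ≠ 0 := by
      rintro rfl
      exact hz1 (by rw [tv_zero, map_one])
    rw [(hF c).resolve_left hc, (hF d).resolve_left hd, one_mul, inv_one, mul_one]

include hF h in
/-- **The doubled root group of `L_{n+1}(2)`, `n ≥ 4`.** -/
theorem exists_two (hn : 4 ≤ n) {e : ProjectiveSpecialLinearGroup (Fin (n + 1)) F →* G} (he : Function.Injective e)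
    [Finite G] {t : G} (het : ∀ g, e g * t = t * e g) {a b : Fin (n + 1)} (hab : a ≠ b) {T : Subgroup G}
    (K : KR t (Bf A) {x | IsRoot cs h x} (XG e) (rtA a b) (PR (Bf A) {x | IsRoot cs h x} (XG e) (rtA a b)) T)
    {m : G} (hX : ∀ x ∈ XG e (rtA a b), m * x * m⁻¹ ∈ XG e (rtA a b)) (ht : t * (m * t * m⁻¹) ∈ XG e (rtA a b))
    (hnt : m * t * m⁻¹ ≠ t) :
    ∃ W, KR.Out t (XG e (rtA a b)) (PR (Bf A) {x | IsRoot cs h x} (XG e) (rtA a b)) T W ∧ (∀ w ∈ W, w * w = 1) ∧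
      ∀ k, Nice t (XG e (rtA a b)) (PR (Bf A) {x | IsRoot cs h x} (XG e) (rtA a b)) 1 k → ∀ w ∈ W,
        k * w * k⁻¹ ∈ W := by
  have hz : ∀ x ∈ XG e (rtA a b), x = 1 ∨ x = e.comp (pr n F) (Tr (Pi.single a 1) (Pi.single b 1)) :=
    fun x hx => ((loc cs h hF hab).X x).1 hx
  have hf : Function.Injective (e.comp (pr n F)) := by
    rw [MonoidHom.coe_comp]
    exact he.comp (pr_injective hF)
  have Tw := two hF (t := t) hf hab (loc cs h hF (e := e) hab) (fun g => het _) ?_ ?_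
  · have S := K.setup
    have hn : m ∈ S.N := by
      refine ⟨hX, fun x hx => ?_, ht⟩
      have := (K.inv_norm hX ht).1 x hx
      rwa [inv_inv] at this
    obtain ⟨m', hm', hmt', hmR, -⟩ := Tw.exists_fix S hn hnt
    obtain ⟨p0, hp0, hin⟩ := Tw.exists_inner S hm' hmR
    exact K.exists_two (pt cs h hF ‹4 ≤ n› hab) hz hm'.1 hm'.2.2 hmt' hp0 hin
  · intro i hi1 hi2
    obtain ⟨j, h1, h2, h3, -⟩ := exists_avoid hn a b i i
    obtain ⟨l, h4, h5, h6, h7⟩ := exists_avoid hn a b i j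
    exact ⟨j, l, h1, h2, h4, h5, h3.symm, h6.symm, h7.symm⟩
  · obtain ⟨j, h1, h2, h3, -⟩ := exists_avoid hn a b a a
    exact ⟨j, h1, h2⟩

end Cfsg.Agent.OddHalf.D7An.LocOf
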