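import Cfsg.Agent.TitsThree.KSideA

/-!
# Transvections in `SL ι F` in coordinate-free form (ODD D7, type `A_n`; helper991)

* `Tr u φ = 1 + u φ` (`φ(u) = 0`), `conj_Tr`, `Tr_mul`, `Tr_mul'`;
* `emb` : `SL` of the complement of `{a, b}`; `emb_mem` : it is generated by root elements.
-/

set_option autoImplicit false
set_option linter.unusedSectionVars false

namespace Cfsg.Agent.OddHalf.D7An.Mat

open Matrix Cfsg.Agent.LieClassical.SLGen
open Cfsg.Agent.TitsThree.KSideA (tv tv_of_ne tv_add tv_zero tv_neg)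

variable {ι F : Type*} [Field F] [DecidableEq ι] [Fintype ι]

theorem det_one_add_vecMulVec (u φ : ι → F) : (1 + vecMulVec u φ).det = 1 + φ ⬝ᵥ u := by
  rw [vecMulVec_eq Unit, det_one_add_replicateCol_mul_replicateRow]

theorem slext {A B : SpecialLinearGroup ι F} (h : A.1 = B.1) : A = B := Subtype.ext h

theorem mulv (A B : SpecialLinearGroup ι F) : (A * B).1 = A.1 * B.1 := rfl

/-- The transvection `1 + u φ`. -/
def Tr' (u φ : ι → F) (h : φ ⬝ᵥ u = 0) : SpecialLinearGroup ι F :=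
  ⟨1 + vecMulVec u φ, by rw [det_one_add_vecMulVec, h, add_zero]⟩

open Classical in
/-- The transvection `1 + u φ` (`1` if `φ(u) ≠ 0`). -/
noncomputable def Tr (u φ : ι → F) : SpecialLinearGroup ι F :=
  if h : φ ⬝ᵥ u = 0 then Tr' u φ h else 1

theorem Tr_val {u φ : ι → F} (h : φ ⬝ᵥ u = 0) : (Tr u φ).1 = 1 + vecMulVec u φ := by
  have : Tr u φ = Tr' u φ h := dif_pos h
  rw [this]; rfl

theorem Tr_apply {u φ : ι → F} (h : φ ⬝ᵥ u = 0) (i j : ι) : (Tr u φ).1 i j = (1 : Matrix ι ι F) i j + u i * φ j := by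
  rw [Tr_val h]; rfl

theorem vecMulVec_mul_self {u φ φ' : ι → F} {u' : ι → F} (h : φ ⬝ᵥ u' = 0) :
    vecMulVec u φ * vecMulVec u' φ' = 0 := by
  rw [vecMulVec_mul_vecMulVec, h, zero_smul]
  ext i j
  simp [vecMulVec_apply]

theorem Tr_mul {u φ φ' : ι → F} (h : φ ⬝ᵥ u = 0) (h' : φ' ⬝ᵥ u = 0) : Tr u φ * Tr u φ' = Tr u (φ + φ') := by
  apply slext
  have h'' : (φ + φ') ⬝ᵥ u = 0 := by rw [add_dotProduct, h, h', add_zero]
  rw [mulv, Tr_val h, Tr_val h', Tr_val h'', add_mul, mul_add, mul_add, vecMulVec_mul_self h,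
    vecMulVec_add]
  simp only [one_mul, mul_one, add_zero]
  abel

theorem Tr_mul' {u u' φ : ι → F} (h : φ ⬝ᵥ u = 0) (h' : φ ⬝ᵥ u' = 0) : Tr u φ * Tr u' φ = Tr (u + u') φ := by
  apply slext
  have h'' : φ ⬝ᵥ (u + u') = 0 := by rw [dotProduct_add, h, h', add_zero]
  rw [mulv, Tr_val h, Tr_val h', Tr_val h'', add_mul, mul_add, mul_add, vecMulVec_mul_self h',
    add_vecMulVec]
  simp only [one_mul, mul_one, add_zero]
  abel

theorem Tr_zero (u : ι → F) : Tr u 0 = 1 := by
  apply slext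
  rw [Tr_val (zero_dotProduct u)]
  ext i j
  simp

theorem Tr_zero' (φ : ι → F) : Tr 0 φ = 1 := by
  apply slext
  rw [Tr_val (dotProduct_zero φ)]
  ext i j
  simp

theorem Tr_neg {u φ : ι → F} (h : φ ⬝ᵥ u = 0) : Tr u (-φ) = (Tr u φ)⁻¹ := by
  rw [eq_inv_iff_mul_eq_one, Tr_mul (by rw [neg_dotProduct, h, neg_zero]) h, neg_add_cancel, Tr_zero]

theorem Tr_neg' {u φ : ι → F} (h : φ ⬝ᵥ u = 0) : Tr (-u) φ = (Tr u φ)⁻¹ := by
  rw [eq_inv_iff_mul_eq_one, Tr_mul' (by rw [dotProduct_neg, h, neg_zero]) h, neg_add_cancel, Tr_zero']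

theorem Tr_mulVec {u φ : ι → F} (h : φ ⬝ᵥ u = 0) (v : ι → F) : (Tr u φ).1 *ᵥ v = v + (φ ⬝ᵥ v) • u := by
  rw [Tr_val h, add_mulVec, one_mulVec, vecMulVec_mulVec]
  congr 1
  funext i
  simp [mul_comm]

theorem vecMul_Tr {u φ : ι → F} (h : φ ⬝ᵥ u = 0) (ψ : ι → F) : ψ ᵥ* (Tr u φ).1 = ψ + (ψ ⬝ᵥ u) • φ := by
  rw [Tr_val h, vecMul_add, vecMul_one, vecMul_vecMulVec]

theorem coe_inv_mul (g : SpecialLinearGroup ι F) : (g⁻¹).1 * g.1 = 1 :=
  congrArg (fun g : SpecialLinearGroup ι F => g.1) (inv_mul_cancel g)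

theorem coe_mul_inv (g : SpecialLinearGroup ι F) : g.1 * (g⁻¹).1 = 1 :=
  congrArg (fun g : SpecialLinearGroup ι F => g.1) (mul_inv_cancel g)

theorem inv_dot (g : SpecialLinearGroup ι F) (φ u : ι → F) : (φ ᵥ* (g⁻¹).1) ⬝ᵥ (g.1 *ᵥ u) = φ ⬝ᵥ u := by
  rw [← dotProduct_mulVec, mulVec_mulVec, coe_inv_mul, one_mulVec]

/-- Conjugation. -/
theorem conj_Tr (g : SpecialLinearGroup ι F) {u φ : ι → F} (h : φ ⬝ᵥ u = 0) :
    g * Tr u φ * g⁻¹ = Tr (g.1 *ᵥ u) (φ ᵥ* (g⁻¹).1) := by
  apply slext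
  have h' : (φ ᵥ* (g⁻¹).1) ⬝ᵥ (g.1 *ᵥ u) = 0 := by rw [inv_dot, h]
  rw [mulv, mulv, Tr_val h, Tr_val h', mul_add, mul_one, add_mul,
    coe_mul_inv, mul_vecMulVec, vecMulVec_mul]

theorem Tr_inj {u φ φ' : ι → F} {i : ι} (hu : u i ≠ 0) (h : φ ⬝ᵥ u = 0) (h' : φ' ⬝ᵥ u = 0) (e : Tr u φ = Tr u φ') :
    φ = φ' := by
  funext j
  have := congrArg (fun g : SpecialLinearGroup ι F => g.1 i j) e
  simp only [Tr_apply h, Tr_apply h'] at this
  exact mul_left_cancel₀ hu (add_left_cancel this)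

theorem Tr_inj' {u u' φ : ι → F} {j : ι} (hφ : φ j ≠ 0) (h : φ ⬝ᵥ u = 0) (h' : φ ⬝ᵥ u' = 0) (e : Tr u φ = Tr u' φ) :
    u = u' := by
  funext i
  have := congrArg (fun g : SpecialLinearGroup ι F => g.1 i j) e
  simp only [Tr_apply h, Tr_apply h'] at this
  exact mul_right_cancel₀ hφ (add_left_cancel this)

/-- Root elements. -/
theorem tv_eq {i j : ι} (hij : i ≠ j) (c : F) : tv i j c = Tr (Pi.single i 1) (Pi.single j c) := by
  apply slext
  have h : (Pi.single j c : ι → F) ⬝ᵥ (Pi.single i 1) = 0 := by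
    rw [single_dotProduct, Pi.single_eq_of_ne hij.symm, mul_zero]
  rw [Tr_val h, tv_of_ne hij]
  ext k l
  show (1 + Matrix.single i j c) k l = (1 + vecMulVec (Pi.single i 1) (Pi.single j c)) k l
  simp only [Matrix.add_apply, vecMulVec_apply, Matrix.single_apply, Pi.single_apply]
  congr 1
  by_cases h1 : i = k
  · subst h1
    by_cases h2 : j = l
    · subst h2; simp
    · have h2' : ¬ l = j := fun h => h2 h.symm
      simp [h2, h2']
  · have h1' : ¬ k = i := fun h => h1 h.symm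
    simp [h1, h1']

/-- A transvection with center `e_i` is a product of root elements. -/
theorem Tr_single_mem {H : Subgroup (SpecialLinearGroup ι F)} {i : ι} {S : Finset ι} (hi : i ∉ S)
    (hH : ∀ j ∈ S, ∀ c, tv i j c ∈ H) {φ : ι → F} (hφ : ∀ j, j ∉ S → φ j = 0) : Tr (Pi.single i 1) φ ∈ H := by
  have key : ∀ T : Finset ι, T ⊆ S → Tr (Pi.single i 1) (∑ j ∈ T, Pi.single j (φ j)) ∈ H := by
    intro T
    induction T using Finset.induction_on with
    | empty => intro _; rw [Finset.sum_empty, Tr_zero]; exact one_mem _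
    | insert j T hj ih =>
      intro hT
      rw [Finset.insert_subset_iff] at hT
      have hji : j ≠ i := fun h => hi (h ▸ hT.1)
      rw [Finset.sum_insert hj, ← Tr_mul]
      · rw [← tv_eq hji.symm]
        exact mul_mem (hH j hT.1 _) (ih hT.2)
      · rw [single_dotProduct, Pi.single_eq_of_ne hji, mul_zero]
      · rw [dotProduct_single, mul_one, Finset.sum_apply]
        refine Finset.sum_eq_zero fun l hl => ?_
        rw [Pi.single_eq_of_ne]
        rintro rfl
        exact hi (hT.2 hl)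
  have h1 := key S subset_rfl
  have h2 : ∑ j ∈ S, Pi.single j (φ j) = φ := by
    funext k
    rw [Finset.sum_apply]
    by_cases hk : k ∈ S
    · rw [Finset.sum_eq_single k]
      · rw [Pi.single_eq_same]
      · intro l _ hl; rw [Pi.single_eq_of_ne hl.symm]
      · intro h; exact absurd hk h
    · rw [hφ k hk]
      refine Finset.sum_eq_zero fun l hl => ?_
      rw [Pi.single_eq_of_ne]
      rintro rfl
      exact hk hl
  rwa [h2] at h1

/-- A transvection with axis `e_j*` is a product of root elements. -/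
theorem Tr_single_mem' {H : Subgroup (SpecialLinearGroup ι F)} {j : ι} {S : Finset ι} (hj : j ∉ S)
    (hH : ∀ i ∈ S, ∀ c, tv i j c ∈ H) {u : ι → F} (hu : ∀ i, i ∉ S → u i = 0) : Tr u (Pi.single j 1) ∈ H := by
  have e1 : ∀ i (c : F), i ≠ j → Tr (Pi.single i c) (Pi.single j 1) = tv i j c := by
    intro i c hij
    rw [tv_eq hij]
    apply slext
    rw [Tr_val, Tr_val]
    · ext k l
      simp only [Matrix.add_apply, vecMulVec_apply, Pi.single_apply]
      by_cases h1 : k = i <;> by_cases h2 : l = j <;> simp [h1, h2]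
    · rw [single_dotProduct, Pi.single_eq_of_ne hij.symm, mul_zero]
    · rw [single_dotProduct, Pi.single_eq_of_ne hij.symm, mul_zero]
  have key : ∀ T : Finset ι, T ⊆ S → Tr (∑ i ∈ T, Pi.single i (u i)) (Pi.single j 1) ∈ H := by
    intro T
    induction T using Finset.induction_on with
    | empty => intro _; rw [Finset.sum_empty, Tr_zero']; exact one_mem _
    | insert i T hi ih =>
      intro hT
      rw [Finset.insert_subset_iff] at hT
      have hij : i ≠ j := fun h => hj (h ▸ hT.1)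
      rw [Finset.sum_insert hi, ← Tr_mul']
      · rw [e1 i _ hij]
        exact mul_mem (hH i hT.1 _) (ih hT.2)
      · rw [single_dotProduct, Pi.single_eq_of_ne hij.symm, mul_zero]
      · rw [single_dotProduct, one_mul, Finset.sum_apply]
        refine Finset.sum_eq_zero fun l hl => ?_
        rw [Pi.single_eq_of_ne]
        rintro rfl
        exact hj (hT.2 hl)
  have h1 := key S subset_rfl
  have h2 : ∑ i ∈ S, Pi.single i (u i) = u := by
    funext k
    rw [Finset.sum_apply]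
    by_cases hk : k ∈ S
    · rw [Finset.sum_eq_single k]
      · rw [Pi.single_eq_same]
      · intro l _ hl; rw [Pi.single_eq_of_ne hl.symm]
      · intro h; exact absurd hk h
    · rw [hu k hk]
      refine Finset.sum_eq_zero fun l hl => ?_
      rw [Pi.single_eq_of_ne]
      rintro rfl
      exact hk hl
  rwa [h2] at h1

/-! ### The Levi complement -/

section Emb

variable (p : ι → Prop) [DecidablePred p]

/-- The block matrix `D ⊕ 1`. -/
def embM (D : Matrix {i // p i} {i // p i} F) : Matrix ι ι F :=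
  (fromBlocks D 0 0 (1 : Matrix {i // ¬ p i} {i // ¬ p i} F)).submatrix (Equiv.sumCompl p).symm (Equiv.sumCompl p).symm

theorem embM_mul (D D' : Matrix {i // p i} {i // p i} F) : embM p (D * D') = embM p D * embM p D' := by
  unfold embM
  rw [submatrix_mul_equiv, fromBlocks_multiply]
  simp

theorem embM_one : embM p (1 : Matrix {i // p i} {i // p i} F) = 1 := by
  unfold embM
  rw [fromBlocks_one, submatrix_one_equiv]

theorem det_embM (D : Matrix {i // p i} {i // p i} F) : (embM p D).det = D.det := by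
  unfold embM
  rw [det_submatrix_equiv_self, det_fromBlocks_zero₂₁, det_one, mul_one]

theorem embM_apply (D : Matrix {i // p i} {i // p i} F) (i j : ι) :
    embM p D i j = if h : p i ∧ p j then D ⟨i, h.1⟩ ⟨j, h.2⟩ else (1 : Matrix ι ι F) i j := by
  unfold embM
  rw [submatrix_apply]
  by_cases hi : p i <;> by_cases hj : p j
  · rw [Equiv.sumCompl_symm_apply_of_pos hi, Equiv.sumCompl_symm_apply_of_pos hj, fromBlocks_apply₁₁, dif_pos ⟨hi, hj⟩]
  · rw [Equiv.sumCompl_symm_apply_of_pos hi, Equiv.sumCompl_symm_apply_of_neg hj, fromBlocks_apply₁₂,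
      dif_neg (fun h => hj h.2), one_apply_ne]
    · rfl
    · rintro rfl; exact hj hi
  · rw [Equiv.sumCompl_symm_apply_of_neg hi, Equiv.sumCompl_symm_apply_of_pos hj, fromBlocks_apply₂₁,
      dif_neg (fun h => hi h.1), one_apply_ne]
    · rfl
    · rintro rfl; exact hi hj
  · rw [Equiv.sumCompl_symm_apply_of_neg hi, Equiv.sumCompl_symm_apply_of_neg hj, fromBlocks_apply₂₂,
      dif_neg (fun h => hi h.1)]
    by_cases hij : i = j
    · subst hij; rw [one_apply_eq, one_apply_eq]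
    · rw [one_apply_ne hij, one_apply_ne]
      intro h; exact hij (congrArg Subtype.val h)

/-- The Levi complement. -/
def emb : SpecialLinearGroup {i // p i} F →* SpecialLinearGroup ι F where
  toFun D := ⟨embM p D.1, by rw [det_embM, D.2]⟩
  map_one' := Subtype.ext (embM_one p)
  map_mul' D D' := Subtype.ext (embM_mul p D.1 D'.1)

theorem emb_val (D : SpecialLinearGroup {i // p i} F) : (emb p D).1 = embM p D.1 := rfl

theorem emb_transvection {i j : {i // p i}} (hij : i ≠ j) (c : F) :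
    emb p (SpecialLinearGroup.transvection hij c) = tv i.1 j.1 c := by
  have hij' : i.1 ≠ j.1 := fun h => hij (Subtype.ext h)
  apply slext
  rw [tv_of_ne hij']
  ext k l
  rw [emb_val, embM_apply]
  show (if h : p k ∧ p l then (1 + Matrix.single i j c) ⟨k, h.1⟩ ⟨l, h.2⟩ else (1 : Matrix ι ι F) k l) =
    (1 + Matrix.single i.1 j.1 c) k l
  simp only [Matrix.add_apply, Matrix.single_apply]
  split_ifs with h1 h2 h3 h3 h4 h4
  · rw [one_apply, one_apply]
    simp only [Subtype.mk.injEq]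
  · exfalso; apply h3
    exact ⟨congrArg Subtype.val h2.1, congrArg Subtype.val h2.2⟩
  · exfalso; apply h2
    exact ⟨Subtype.ext h3.1, Subtype.ext h3.2⟩
  · rw [one_apply, one_apply]
    simp only [Subtype.mk.injEq]
  · exfalso; apply h1
    rw [← h4.1, ← h4.2]
    exact ⟨i.2, j.2⟩
  · rw [add_zero]

/-- The Levi complement is generated by root elements. -/
theorem emb_mem {H : Subgroup (SpecialLinearGroup ι F)} (hH : ∀ i j, p i → p j → i ≠ j → ∀ c, tv i j c ∈ H)
    (D : SpecialLinearGroup {i // p i} F) : emb p D ∈ H := by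
  have h1 : (⊤ : Subgroup (SpecialLinearGroup {i // p i} F)) ≤ H.comap (emb p) := by
    rw [← closure_transvections, Subgroup.closure_le]
    rintro _ ⟨i, j, hij, c, rfl⟩
    rw [SetLike.mem_coe, Subgroup.mem_comap, emb_transvection]
    exact hH i.1 j.1 i.2 j.2 (fun h => hij (Subtype.ext h)) c
  exact h1 (Subgroup.mem_top D)

end Emb

end Cfsg.Agent.OddHalf.D7An.Mat
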