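import Cfsg.Agent.OddHalf.D7An.LocOf
import Cfsg.Agent.KFacts.ChevTwoSys

/-!
# `L_{n+1}(q)`, `q ≥ 4` even, `n ≥ 3`: the torus elements `D7Ex.Tor` (ODD D7; helper991)

`e : PSL_{n+1}(F) →* G` injective, `char F = 2`, `|F| > 2`, root groups `XG e x`, torus `TG e`; the roots `rtA a b`,
`rtA c d` with `a, b, c, d` distinct.
-/

set_option autoImplicit false
set_option linter.unusedSectionVars false

namespace Cfsg.Agent.OddHalf.D7An.TorOf

open Matrix Subgroup CoxeterSystem Cfsg.Agent.ChevalleyStructure.CoxeterGeom Cfsg.Agent.Tits.Roots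
  Cfsg.Agent.Tits.Core Cfsg.Agent.Nodes.Reps Cfsg.Agent.Nodes.BNOf Cfsg.Agent.Nodes.Coroot
  Cfsg.Agent.Nodes.RootsA Cfsg.Agent.Nodes.RGDTypeA Cfsg.Agent.Nodes.CommA
  Cfsg.Agent.OddHalf.SL.Index Cfsg.Agent.OddHalf.SL.Defs
  Cfsg.Agent.OddHalf.D7Ex Cfsg.Agent.OddHalf.D7An.LocOf Cfsg.Agent.KFacts.ChevTwo
  Cfsg.Agent.KFacts.SLRow.TypeA
open Cfsg.Agent.LieRecognition.BNCox (cA)
open Cfsg.Agent.TitsThree.KSideA (tv tv_of_ne tv_add tv_zero tv_neg)

variable {n : ℕ} {F : Type*} [Field F] {G : Type*} [Group G]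

/-- The torus in `G`. -/
def TG (e : ProjectiveSpecialLinearGroup (Fin (n + 1)) F →* G) : Subgroup G :=
  ((Cfsg.Agent.Nodes.RGDTypeA.T (Fin (n + 1)) F).map (pr n F)).map e

/-- The root elements in `G`. -/
noncomputable def EG (e : ProjectiveSpecialLinearGroup (Fin (n + 1)) F →* G) (x : Fin n → ℤ) (t : F) : G :=
  e.comp (pr n F) (eA x t)

theorem EG_rtA (e : ProjectiveSpecialLinearGroup (Fin (n + 1)) F →* G) {a b : Fin (n + 1)} (hab : a ≠ b) (t : F) :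
    EG e (rtA a b) t = e.comp (pr n F) (tv a b t) := by
  unfold EG; rw [eA_rtA hab]

theorem mem_XG' {e : ProjectiveSpecialLinearGroup (Fin (n + 1)) F →* G} {a b : Fin (n + 1)} (hab : a ≠ b) {g : G} :
    g ∈ XG e (rtA a b) ↔ ∃ c : F, g = EG e (rtA a b) c := by
  rw [mem_XG hab]
  exact exists_congr fun c => by rw [EG_rtA e hab]

variable {W : Type*} [Group W] [Finite W] (cs : CoxeterSystem (cA n) W) {A : Fin n → Fin n → ℤ}
  (h : IsCartan (cA n) A)

/-- `XG e` are the root groups of a Chevalley group of characteristic two. -/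
theorem data (h2 : ∀ t : F, t + t = 0) {e : ProjectiveSpecialLinearGroup (Fin (n + 1)) F →* G}
    (he : Function.Injective e) : Data cs h (EG e) := by
  refine data_map (data_SL h2 cs h) (e.comp (pr n F)) ?_
  intro x hx t ht
  have h1 : pr n F (eA x t) = 1 := he (by rw [map_one]; exact ht)
  obtain ⟨a, b, hab, rfl⟩ := exists_of_isRoot cs h hx
  rw [eA_rtA hab] at h1 ⊢
  refine not_mem_center h2 hab ?_
  rw [← ker_pr]
  exact h1

/-- `h_x(c)` lies in the torus. -/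
theorem hel_mem_TG (h2 : ∀ t : F, t + t = 0) (e : ProjectiveSpecialLinearGroup (Fin (n + 1)) F →* G)
    {a b : Fin (n + 1)} (hab : a ≠ b) {c : F} (hc : c ≠ 0) : hel (EG e) (rtA a b) c ∈ TG e := by
  have e1 : ∀ c : F, nc (EG e) (rtA a b) c = e.comp (pr n F) (nn a b c) := by
    intro c
    rw [nc_def, rtA_neg, EG_rtA e hab, EG_rtA e hab.symm, ← map_mul, ← map_mul, nn, neg_self h2]
  have e2 : hel (EG e) (rtA a b) c = e.comp (pr n F) (nn a b c * nn a b 1) := by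
    rw [hel_def, nel, e1, e1, map_mul]
  rw [e2]
  refine ⟨_, ⟨nn a b c * nn a b 1, ?_, rfl⟩, rfl⟩
  have := (mono_nn hab hc).mul (mono_nn (F := F) hab one_ne_zero)
  rw [Equiv.swap_mul_self] at this
  exact this

/-- The torus has odd exponent. -/
theorem odd_pow [Finite F] [CharP F 2] (e : ProjectiveSpecialLinearGroup (Fin (n + 1)) F →* G) :
    ∃ m, Odd m ∧ ∀ g ∈ TG e, g ^ m = 1 := by
  have : Fact (Nat.Prime 2) := ⟨Nat.prime_two⟩
  refine ⟨Nat.card (Cfsg.Agent.Nodes.RGDTypeA.T (Fin (n + 1)) F), ?_, ?_⟩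
  · exact Nat.coprime_two_right.1 (card_T_coprime (p := 2))
  · rintro _ ⟨_, ⟨g, hg, rfl⟩, rfl⟩
    have h1 : (⟨g, hg⟩ : Cfsg.Agent.Nodes.RGDTypeA.T (Fin (n + 1)) F) ^
        Nat.card (Cfsg.Agent.Nodes.RGDTypeA.T (Fin (n + 1)) F) = 1 := pow_card_eq_one'
    have h3 : g ^ Nat.card (Cfsg.Agent.Nodes.RGDTypeA.T (Fin (n + 1)) F) = 1 := congrArg Subtype.val h1
    rw [← map_pow, ← map_pow, h3, map_one, map_one]

/-- **The torus elements for `L_{n+1}(q)`**, `q > 2`. -/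
theorem tor [Finite F] [CharP F 2] {e : ProjectiveSpecialLinearGroup (Fin (n + 1)) F →* G}
    (he : Function.Injective e) {a0 : F} (h0 : a0 ≠ 0) (h1 : a0 ≠ 1) {a b c d : Fin (n + 1)} (hab : a ≠ b)
    (hcd : c ≠ d) (hca : c ≠ a) (hcb : c ≠ b) (hda : d ≠ a) (hdb : d ≠ b) :
    Tor (Bf A) {x | IsRoot cs h x} (XG e) (rtA a b) (TG e) (rtA c d) (hel (EG e) (rtA a b) a0)
      (hel (EG e) (rtA c d) a0) := by
  have h2 : ∀ t : F, t + t = 0 := CharTwo.add_self_eq_zero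
  have D := data cs h h2 he
  have hr := isRoot_rtA cs h hab
  have hβ := isRoot_rtA cs h hcd
  have hc0 : Bf A (rtA c d) (rtA a b) = 0 := by
    rw [bf_rtA cs h c d hab, if_neg hca, if_neg hcb, if_neg hda, if_neg hdb]; norm_num
  have hbf : ∀ x y, IsRoot cs h y → Bf A x y = cpr cs h x y := fun x y hy =>
    bf_eq_cpr (cs := cs) (h := h) (fun i j => (Cfsg.Agent.KFacts.SLRow.Psl.cA_ne i j).1)
      (fun i j => (Cfsg.Agent.KFacts.SLRow.Psl.cA_ne i j).2) x hy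
  have act : ∀ y, IsRoot cs h y → ∀ x, IsRoot cs h x → ∀ t : F,
      hel (EG e) y a0 * EG e x t * (hel (EG e) y a0)⁻¹ = EG e x (a0 ^ Bf A x y * t) := fun y hy x hx t => by
    rw [D.hel_conj hx hy h0, hbf x y hy]
  refine ⟨hβ, hc0, hel_mem_TG h2 e hab h0, hel_mem_TG h2 e hcd h0, ?_, ?_, ?_, ?_, ?_⟩
  · -- `k ∈ PR`
    have h3 : XG e (rtA c d) ≤ PR (Bf A) {x | IsRoot cs h x} (XG e) (rtA a b) :=
      le_PR (XG e) hβ (by rw [hc0])
    have h4 : XG e (rtA d c) ≤ PR (Bf A) {x | IsRoot cs h x} (XG e) (rtA a b) := by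
      refine le_PR (XG e) (isRoot_rtA cs h hcd.symm) ?_
      rw [bf_rtA cs h d c hab, if_neg hca, if_neg hcb, if_neg hda, if_neg hdb]; norm_num
    have h5 : ∀ t, EG e (rtA c d) t ∈ PR (Bf A) {x | IsRoot cs h x} (XG e) (rtA a b) := fun t =>
      h3 ((mem_XG' hcd).2 ⟨t, rfl⟩)
    have h6 : ∀ t, EG e (-rtA c d) t ∈ PR (Bf A) {x | IsRoot cs h x} (XG e) (rtA a b) := fun t => by
      rw [rtA_neg]; exact h4 ((mem_XG' hcd.symm).2 ⟨t, rfl⟩)
    rw [hel_def, nel, nc_def, nc_def]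
    exact mul_mem (mul_mem (mul_mem (h5 _) (h6 _)) (h5 _)) (mul_mem (mul_mem (h5 _) (h6 _)) (h5 _))
  · intro x hx hx1 hx2 y hy
    obtain ⟨i, j, hij, rfl⟩ := exists_of_isRoot cs h hx
    obtain ⟨t, rfl⟩ := (mem_XG' hij).1 hy
    rw [act _ hr _ hx, act _ hβ _ hx, hx1, hx2]
  · intro x hx hx1 y hy
    obtain ⟨i, j, hij, rfl⟩ := exists_of_isRoot cs h hx
    obtain ⟨t, rfl⟩ := (mem_XG' hij).1 hy
    have h3 := act _ hr _ hx t
    rw [hx1, zpow_zero, one_mul, mul_inv_eq_iff_eq_mul] at h3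
    exact h3
  · refine ⟨EG e (rtA a b) 1, (mem_XG' hab).2 ⟨1, rfl⟩, ?_⟩
    rw [act _ hr _ hr]
    intro h3
    have h4 := D.injective hr h3
    have h5 : Bf A (rtA a b) (rtA a b) = 2 := by
      rw [bf_rtA cs h a b hab, if_pos rfl, if_neg hab, if_neg hab.symm, if_pos rfl]; norm_num
    rw [h5, mul_one] at h4
    have h6 : (a0 - 1) * (a0 - 1) = 0 := by
      have h7 := h2 a0
      have h8 := h2 (1 : F)
      have h9 : a0 * a0 = 1 := (zpow_two a0).symm.trans h4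
      linear_combination h9 + (-a0 + 1) * h8
    exact h1 (sub_eq_zero.1 (mul_self_eq_zero.1 h6))
  · obtain ⟨m, hm, hm1⟩ := odd_pow (n := n) (F := F) e
    exact ⟨m, hm, hm1 _ (hel_mem_TG h2 e hab h0)⟩

/-- **Every root has torus elements** (`n ≥ 3`, `q > 2`). -/
theorem exists_tor [Finite F] [CharP F 2] {e : ProjectiveSpecialLinearGroup (Fin (n + 1)) F →* G}
    (he : Function.Injective e) (hn : 3 ≤ n) (hF : 2 < Nat.card F) {r : Fin n → ℤ} (hr : IsRoot cs h r) :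
    ∃ β k₁ k₂, Tor (Bf A) {x | IsRoot cs h x} (XG e) r (TG e) β k₁ k₂ := by
  obtain ⟨a, b, hab, rfl⟩ := exists_of_isRoot cs h hr
  have key : ∀ S : Finset (Fin (n + 1)), S.card ≤ 3 → ∃ i, i ∉ S := by
    intro S hS
    by_contra hcon
    push Not at hcon
    have h1 : Finset.univ ⊆ S := fun i _ => hcon i
    have h2 := Finset.card_le_card h1
    rw [Finset.card_univ, Fintype.card_fin] at h2
    omega
  obtain ⟨c, hc⟩ := key {a, b} (Finset.card_le_two.trans (by norm_num))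
  obtain ⟨d, hd⟩ := key {a, b, c} Finset.card_le_three
  simp only [Finset.mem_insert, Finset.mem_singleton, not_or] at hc hd
  obtain ⟨a0, h0, h1⟩ : ∃ a0 : F, a0 ≠ 0 ∧ a0 ≠ 1 := by
    by_contra hcon
    push Not at hcon
    have hs : Function.Surjective (fun b : Bool => if b then (1 : F) else 0) := by
      intro x
      by_cases hx : x = 0
      · exact ⟨false, by rw [hx]; rfl⟩
      · exact ⟨true, (hcon x hx).symm⟩
    have := Nat.card_le_card_of_surjective _ hs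
    simp at this
    omega
  exact ⟨rtA c d, _, _, tor cs h he h0 h1 hab (fun e => hd.2.2 e.symm) hc.1 hc.2 hd.1 hd.2.1⟩

/-- The torus is abelian. -/
theorem TG_comm (e : ProjectiveSpecialLinearGroup (Fin (n + 1)) F →* G) : ∀ s ∈ TG e, ∀ t ∈ TG e, s * t = t * s := by
  rintro _ ⟨_, ⟨s, hs, rfl⟩, rfl⟩ _ ⟨_, ⟨t, ht, rfl⟩, rfl⟩
  rw [← map_mul, ← map_mul, ← map_mul, ← map_mul]
  congr 2
  have hd : ∀ g : SpecialLinearGroup (Fin (n + 1)) F, g ∈ Cfsg.Agent.Nodes.RGDTypeA.T (Fin (n + 1)) F →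
      g.1 = Matrix.diagonal fun i => g.1 i i := by
    intro g hg
    ext i j
    by_cases hij : i = j
    · rw [hij, Matrix.diagonal_apply_eq]
    · rw [Matrix.diagonal_apply_ne _ hij]
      by_contra h0
      exact hij (mem_T.1 hg i j h0)
  apply Subtype.ext
  show s.1 * t.1 = t.1 * s.1
  rw [hd s hs, hd t ht, Matrix.diagonal_mul_diagonal, Matrix.diagonal_mul_diagonal]
  congr 1
  funext i
  rw [mul_comm]

end Cfsg.Agent.OddHalf.D7An.TorOf
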