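import Cfsg.Agent.OddHalf.D7An.Mat

/-!
# `SL_m(2)`: the parabolic of a transvection (ODD D7, `K = L_m(2)`; helper991)

`a ≠ b` in `ι`; `AM a = {1 + e_a φ}`, `BM b = {1 + u e_b*}`, `z = 1 + e_a e_b*`.

* `trA`, `trB` : the stabiliser of `AM` (`BM`) is transitive on its transvections;
* `le_of_mem` : a subgroup containing `z`, invariant under the Levi complement and containing an element
  `(1 + e_a φ)(1 + u e_b*)` outside `AM ∪ BM` contains `AM` and `BM`.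
-/

set_option autoImplicit false
set_option linter.unusedSectionVars false

namespace Cfsg.Agent.OddHalf.D7An.Two

open Matrix Cfsg.Agent.OddHalf.D7An.Mat
open Cfsg.Agent.TitsThree.KSideA (tv tv_of_ne tv_add tv_zero tv_neg)

variable {ι F : Type*} [Field F] [DecidableEq ι] [Fintype ι]

theorem dot_single (φ : ι → F) (a : ι) : φ ⬝ᵥ Pi.single a 1 = φ a := by rw [dotProduct_single, mul_one]

theorem single_dot (u : ι → F) (b : ι) : (Pi.single b 1 : ι → F) ⬝ᵥ u = u b := by rw [single_dotProduct, one_mul]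

/-- `{1 + e_a φ}` -/
def AM (F : Type*) [Field F] (a : ι) : Subgroup (SpecialLinearGroup ι F) where
  carrier := {g | ∃ φ : ι → F, φ a = 0 ∧ g = Tr (Pi.single a 1) φ}
  one_mem' := ⟨0, rfl, (Tr_zero _).symm⟩
  mul_mem' := by
    rintro _ _ ⟨φ, h, rfl⟩ ⟨φ', h', rfl⟩
    refine ⟨φ + φ', by rw [Pi.add_apply, h, h', add_zero], Tr_mul ?_ ?_⟩ <;> rw [dot_single] <;> assumption
  inv_mem' := by
    rintro _ ⟨φ, h, rfl⟩
    exact ⟨-φ, by rw [Pi.neg_apply, h, neg_zero], (Tr_neg (by rw [dot_single]; exact h)).symm⟩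

/-- `{1 + u e_b*}` -/
def BM (F : Type*) [Field F] (b : ι) : Subgroup (SpecialLinearGroup ι F) where
  carrier := {g | ∃ u : ι → F, u b = 0 ∧ g = Tr u (Pi.single b 1)}
  one_mem' := ⟨0, rfl, (Tr_zero' _).symm⟩
  mul_mem' := by
    rintro _ _ ⟨u, h, rfl⟩ ⟨u', h', rfl⟩
    refine ⟨u + u', by rw [Pi.add_apply, h, h', add_zero], Tr_mul' ?_ ?_⟩ <;> rw [single_dot] <;> assumption
  inv_mem' := by
    rintro _ ⟨u, h, rfl⟩
    exact ⟨-u, by rw [Pi.neg_apply, h, neg_zero], (Tr_neg' (by rw [single_dot]; exact h)).symm⟩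

theorem mem_AM {a : ι} {g : SpecialLinearGroup ι F} : g ∈ AM F a ↔ ∃ φ : ι → F, φ a = 0 ∧ g = Tr (Pi.single a 1) φ :=
  Iff.rfl

theorem mem_BM {b : ι} {g : SpecialLinearGroup ι F} : g ∈ BM F b ↔ ∃ u : ι → F, u b = 0 ∧ g = Tr u (Pi.single b 1) :=
  Iff.rfl

/-- An element fixing `e_a` normalises `AM a`. -/
theorem conj_AM {a : ι} {g : SpecialLinearGroup ι F} (hg : g.1 *ᵥ Pi.single a 1 = Pi.single a 1) {φ : ι → F}
    (h : φ a = 0) : g * Tr (Pi.single a 1) φ * g⁻¹ = Tr (Pi.single a 1) (φ ᵥ* (g⁻¹).1) ∧ (φ ᵥ* (g⁻¹).1) a = 0 := by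
  have h0 : φ ⬝ᵥ (Pi.single a 1 : ι → F) = 0 := by rw [dot_single, h]
  refine ⟨by rw [conj_Tr g h0, hg], ?_⟩
  have := inv_dot g φ (Pi.single a 1)
  rw [hg, dot_single, dot_single, h] at this
  exact this

/-- An element fixing `e_b*` normalises `BM b`. -/
theorem conj_BM {b : ι} {g : SpecialLinearGroup ι F} (hg : (Pi.single b 1 : ι → F) ᵥ* (g⁻¹).1 = Pi.single b 1)
    {u : ι → F} (h : u b = 0) : g * Tr u (Pi.single b 1) * g⁻¹ = Tr (g.1 *ᵥ u) (Pi.single b 1) ∧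
      (g.1 *ᵥ u) b = 0 := by
  have h0 : (Pi.single b 1 : ι → F) ⬝ᵥ u = 0 := by rw [single_dot, h]
  refine ⟨by rw [conj_Tr g h0, hg], ?_⟩
  have := inv_dot g (Pi.single b 1) u
  rw [hg, single_dot, single_dot, h] at this
  exact this

variable (hF : ∀ x : F, x = 0 ∨ x = 1)

include hF

theorem eq_one {x : F} (h : x ≠ 0) : x = 1 := (hF x).resolve_left h

theorem one_add_one : (1 : F) + 1 = 0 := by
  rcases hF (1 + 1) with h | h
  · exact h
  · exact absurd (add_eq_left.1 h) one_ne_zero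

theorem trA {a b : ι} (hab : a ≠ b) {φ : ι → F} (h : φ a = 0) (h0 : φ ≠ 0) : ∃ g : SpecialLinearGroup ι F,
    g.1 *ᵥ Pi.single a 1 = Pi.single a 1 ∧ (Pi.single b 1 : ι → F) ᵥ* (g⁻¹).1 = φ := by
  by_cases hb : ∃ i, i ≠ b ∧ φ i ≠ 0
  · obtain ⟨i, hi, hφi⟩ := hb
    have hφi := eq_one hF hφi
    -- `w b = 1`, `φ w = 1`
    let w : ι → F := Pi.single b 1 + (1 - φ b) • Pi.single i 1
    have hw1 : φ ⬝ᵥ w = 1 := by
      simp only [w]
      rw [dotProduct_add, dotProduct_smul, dot_single, dot_single, hφi, smul_eq_mul]; ring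
    have hw2 : w b = 1 := by
      simp only [w]
      rw [Pi.add_apply, Pi.smul_apply, Pi.single_eq_same, Pi.single_eq_of_ne hi.symm, smul_zero, add_zero]
    have hχ : (φ - Pi.single b 1) ⬝ᵥ w = 0 := by rw [sub_dotProduct, hw1, single_dot, hw2, sub_self]
    have hχ' : (-(φ - Pi.single b 1)) ⬝ᵥ w = 0 := by rw [neg_dotProduct, hχ, neg_zero]
    refine ⟨Tr w (-(φ - Pi.single b 1)), ?_, ?_⟩
    · rw [Tr_mulVec hχ', dot_single, Pi.neg_apply, Pi.sub_apply, h, Pi.single_eq_of_ne hab, sub_zero, neg_zero,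
        zero_smul, add_zero]
    · rw [Tr_neg hχ, inv_inv, vecMul_Tr hχ, single_dot, hw2, one_smul]
      abel
  · push Not at hb
    have e : φ = Pi.single b 1 := by
      have hφb : φ b ≠ 0 := by
        intro h1
        apply h0
        funext i
        by_cases hi : i = b
        · rw [hi, h1]; rfl
        · exact hb i hi
      funext i
      by_cases hi : i = b
      · rw [hi, Pi.single_eq_same]; exact eq_one hF hφb
      · rw [hb i hi, Pi.single_eq_of_ne hi]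
    refine ⟨1, ?_, ?_⟩
    · show (1 : Matrix ι ι F) *ᵥ _ = _
      rw [one_mulVec]
    · rw [inv_one]
      show _ ᵥ* (1 : Matrix ι ι F) = _
      rw [vecMul_one, e]

theorem trB {a b : ι} (hab : a ≠ b) {u : ι → F} (h : u b = 0) (h0 : u ≠ 0) : ∃ g : SpecialLinearGroup ι F,
    (Pi.single b 1 : ι → F) ᵥ* (g⁻¹).1 = Pi.single b 1 ∧ g.1 *ᵥ Pi.single a 1 = u := by
  by_cases hb : ∃ i, i ≠ a ∧ u i ≠ 0
  · obtain ⟨i, hi, hui⟩ := hb
    have hui := eq_one hF hui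
    let χ : ι → F := Pi.single a 1 + (1 - u a) • Pi.single i 1
    have hw1 : χ ⬝ᵥ u = 1 := by
      simp only [χ]
      rw [add_dotProduct, smul_dotProduct, single_dot, single_dot, hui, smul_eq_mul]; ring
    have hw2 : χ a = 1 := by
      simp only [χ]
      rw [Pi.add_apply, Pi.smul_apply, Pi.single_eq_same, Pi.single_eq_of_ne hi.symm, smul_zero, add_zero]
    have hχ : χ ⬝ᵥ (u - Pi.single a 1) = 0 := by rw [dotProduct_sub, hw1, dot_single, hw2, sub_self]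
    refine ⟨Tr (u - Pi.single a 1) χ, ?_, ?_⟩
    · rw [← Tr_neg hχ, vecMul_Tr (by rw [neg_dotProduct, hχ, neg_zero]), single_dot, Pi.sub_apply, h,
        Pi.single_eq_of_ne hab.symm, sub_zero, zero_smul, add_zero]
    · rw [Tr_mulVec hχ, dot_single, hw2, one_smul]
      abel
  · push Not at hb
    have e : u = Pi.single a 1 := by
      have hφb : u a ≠ 0 := by
        intro h1
        apply h0
        funext i
        by_cases hi : i = a
        · rw [hi, h1]; rfl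
        · exact hb i hi
      funext i
      by_cases hi : i = a
      · rw [hi, Pi.single_eq_same]; exact eq_one hF hφb
      · rw [hb i hi, Pi.single_eq_of_ne hi]
    refine ⟨1, ?_, ?_⟩
    · rw [inv_one]
      show _ ᵥ* (1 : Matrix ι ι F) = _
      rw [vecMul_one]
    · show (1 : Matrix ι ι F) *ᵥ _ = _
      rw [one_mulVec, e]

/-- `w` is supported outside `{a, b}`. -/
def Off (a b : ι) (w : ι → F) : Prop := w a = 0 ∧ w b = 0

omit hF in
theorem Off.add {a b : ι} {w w' : ι → F} (h : Off a b w) (h' : Off a b w') : Off a b (w + w') :=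
  ⟨by rw [Pi.add_apply, h.1, h'.1, add_zero], by rw [Pi.add_apply, h.2, h'.2, add_zero]⟩

omit hF in
theorem off_single {a b i : ι} (ha : i ≠ a) (hb : i ≠ b) : Off a b (Pi.single i (1 : F)) :=
  ⟨Pi.single_eq_of_ne ha.symm _, Pi.single_eq_of_ne hb.symm _⟩

/-- Separation. -/
theorem sepk {a b : ι} {φ χ : ι → F} (h1 : ∃ i, i ≠ a ∧ i ≠ b ∧ φ i ≠ χ i) (h2 : ∃ i, i ≠ a ∧ i ≠ b ∧ φ i ≠ 0) :
    ∃ w : ι → F, Off a b w ∧ φ ⬝ᵥ w = 1 ∧ χ ⬝ᵥ w = 0 := by
  by_cases h3 : ∃ i, i ≠ a ∧ i ≠ b ∧ φ i ≠ 0 ∧ χ i = 0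
  · obtain ⟨i, ha, hb, hφ, hχ⟩ := h3
    exact ⟨Pi.single i 1, off_single ha hb, by rw [dot_single]; exact eq_one hF hφ, by rw [dot_single, hχ]⟩
  · push Not at h3
    obtain ⟨j, hja, hjb, hj⟩ := h1
    obtain ⟨i, hia, hib, hi⟩ := h2
    have hφj : φ j = 0 := by
      by_contra h4
      exact hj (by rw [eq_one hF h4, eq_one hF (h3 j hja hjb h4)])
    have hχj : χ j = 1 := eq_one hF (fun h4 => hj (by rw [hφj, h4]))
    refine ⟨Pi.single i 1 + Pi.single j 1, (off_single hia hib).add (off_single hja hjb), ?_, ?_⟩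
    · rw [dotProduct_add, dot_single, dot_single, eq_one hF hi, hφj, add_zero]
    · rw [dotProduct_add, dot_single, dot_single, eq_one hF (h3 i hia hib hi), hχj, one_add_one hF]

theorem sep1 {a b : ι} {φ χ : ι → F} (h1 : ∃ i, i ≠ a ∧ i ≠ b ∧ φ i ≠ 0) (h2 : ∃ i, i ≠ a ∧ i ≠ b ∧ χ i ≠ 0) :
    ∃ w : ι → F, Off a b w ∧ φ ⬝ᵥ w = 1 ∧ χ ⬝ᵥ w = 1 := by
  by_cases h3 : ∃ i, i ≠ a ∧ i ≠ b ∧ φ i ≠ χ i
  · obtain ⟨w, hw, e1, e2⟩ := sepk hF h3 h1
    obtain ⟨w', hw', e1', e2'⟩ := sepk hF (φ := χ) (χ := φ) (by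
      obtain ⟨i, ha, hb, hi⟩ := h3; exact ⟨i, ha, hb, hi.symm⟩) h2
    refine ⟨w + w', hw.add hw', ?_, ?_⟩
    · rw [dotProduct_add, e1, e2', add_zero]
    · rw [dotProduct_add, e2, e1', zero_add]
  · push Not at h3
    obtain ⟨i, ha, hb, hi⟩ := h1
    exact ⟨Pi.single i 1, off_single ha hb, by rw [dot_single]; exact eq_one hF hi, by
      rw [dot_single, ← h3 i ha hb]; exact eq_one hF hi⟩

theorem exists_pair {a b : ι} {φ u : ι → F} {i j l : ι} (hi : i ≠ a ∧ i ≠ b) (hj : j ≠ a ∧ j ≠ b) (hl : l ≠ a ∧ l ≠ b)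
    (hij : i ≠ j) (hil : i ≠ l) (hjl : j ≠ l) (hu : u i ≠ 0) (h2 : ∃ i, i ≠ a ∧ i ≠ b ∧ φ i ≠ 0) :
    ∃ χ w : ι → F, Off a b χ ∧ Off a b w ∧ (∃ i, i ≠ a ∧ i ≠ b ∧ χ i ≠ 0) ∧ χ ⬝ᵥ u = 0 ∧ χ ⬝ᵥ w = 0 ∧ φ ⬝ᵥ w = 1 := by
  have hui := eq_one hF hu
  have h11 := one_add_one hF
  have key : ∀ k, k ≠ a ∧ k ≠ b → i ≠ k → Off a b (Pi.single k 1 + u k • Pi.single i 1 : ι → F) ∧
      (Pi.single k 1 + u k • Pi.single i 1 : ι → F) k = 1 ∧ (Pi.single k 1 + u k • Pi.single i 1 : ι → F) ⬝ᵥ u = 0 := by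
    intro k hk hik
    refine ⟨(off_single hk.1 hk.2).add ⟨?_, ?_⟩, ?_, ?_⟩
    · rw [Pi.smul_apply, Pi.single_eq_of_ne hi.1.symm, smul_zero]
    · rw [Pi.smul_apply, Pi.single_eq_of_ne hi.2.symm, smul_zero]
    · rw [Pi.add_apply, Pi.smul_apply, Pi.single_eq_same, Pi.single_eq_of_ne hik.symm, smul_zero, add_zero]
    · rw [add_dotProduct, smul_dotProduct, single_dot, single_dot, hui, smul_eq_mul, mul_one]
      rcases hF (u k) with e | e <;> rw [e]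
      · rw [add_zero]
      · exact h11
  have fin : ∀ χ : ι → F, Off a b χ → (∃ i, i ≠ a ∧ i ≠ b ∧ χ i ≠ 0) → χ ⬝ᵥ u = 0 → (∃ i, i ≠ a ∧ i ≠ b ∧ φ i ≠ χ i) →
      ∃ χ w : ι → F, Off a b χ ∧ Off a b w ∧ (∃ i, i ≠ a ∧ i ≠ b ∧ χ i ≠ 0) ∧ χ ⬝ᵥ u = 0 ∧ χ ⬝ᵥ w = 0 ∧
        φ ⬝ᵥ w = 1 := by
    intro χ h3 h4 h5 h6
    obtain ⟨w, hw, e1, e2⟩ := sepk hF h6 h2
    exact ⟨χ, w, h3, hw, h4, h5, e2, e1⟩
  obtain ⟨j1, j2, j3⟩ := key j hj hij
  obtain ⟨l1, l2, l3⟩ := key l hl hil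
  by_cases h3 : ∃ k, k ≠ a ∧ k ≠ b ∧ φ k ≠ (Pi.single j 1 + u j • Pi.single i 1 : ι → F) k
  · exact fin _ j1 ⟨j, hj.1, hj.2, by rw [j2]; exact one_ne_zero⟩ j3 h3
  · push Not at h3
    refine fin _ l1 ⟨l, hl.1, hl.2, by rw [l2]; exact one_ne_zero⟩ l3 ⟨j, hj.1, hj.2, ?_⟩
    rw [h3 j hj.1 hj.2, j2, Pi.add_apply, Pi.smul_apply, Pi.single_eq_of_ne hjl, Pi.single_eq_of_ne hij.symm, smul_zero,
      add_zero]
    exact one_ne_zero

/-- The parabolic subgroup: invariant subgroups. -/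
theorem AM_le {a b : ι} (hab : a ≠ b) {S : Subgroup (SpecialLinearGroup ι F)}
    (hX : Tr (Pi.single a 1) (Pi.single b (1 : F)) ∈ S)
    (hS : ∀ w χ : ι → F, Off a b w → Off a b χ → χ ⬝ᵥ w = 0 → ∀ g ∈ S, Tr w χ * g * (Tr w χ)⁻¹ ∈ S)
    {χ : ι → F} (hχ : Off a b χ) (hχ0 : ∃ i, i ≠ a ∧ i ≠ b ∧ χ i ≠ 0) (hmem : Tr (Pi.single a 1) χ ∈ S) :
    AM F a ≤ S := by
  -- supported outside `b`
  have h1 : ∀ ψ : ι → F, Off a b ψ → Tr (Pi.single a 1) ψ ∈ S := by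
    intro ψ hψ
    by_cases h0 : ∃ i, i ≠ a ∧ i ≠ b ∧ ψ i ≠ 0
    · obtain ⟨w, hw, e1, e2⟩ := sep1 hF hχ0 h0
      have hd : (ψ - χ) ⬝ᵥ w = 0 := by rw [sub_dotProduct, e1, e2, sub_self]
      have hd' : (-(ψ - χ)) ⬝ᵥ w = 0 := by rw [neg_dotProduct, hd, neg_zero]
      have hoff : Off a b (-(ψ - χ)) := ⟨by
        rw [Pi.neg_apply, Pi.sub_apply, hψ.1, hχ.1, sub_zero, neg_zero], by
        rw [Pi.neg_apply, Pi.sub_apply, hψ.2, hχ.2, sub_zero, neg_zero]⟩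
      have h2 := hS w (-(ψ - χ)) hw hoff hd' _ hmem
      have hfix : (Tr w (-(ψ - χ))).1 *ᵥ Pi.single a 1 = Pi.single a 1 := by
        rw [Tr_mulVec hd', dot_single, hoff.1, zero_smul, add_zero]
      rw [(conj_AM hfix hχ.1).1, Tr_neg hd, inv_inv, vecMul_Tr hd, e1, one_smul] at h2
      have e : χ + (ψ - χ) = ψ := by abel
      rwa [e] at h2
    · push Not at h0
      have e : ψ = 0 := by
        funext i
        by_cases ha : i = a
        · rw [ha, hψ.1]; rfl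
        by_cases hb : i = b
        · rw [hb, hψ.2]; rfl
        exact h0 i ha hb
      rw [e, Tr_zero]; exact one_mem _
  rintro _ ⟨φ, hφ, rfl⟩
  have e : φ = (fun i => if i = b then 0 else φ i) + φ b • Pi.single b 1 := by
    funext i
    rw [Pi.add_apply, Pi.smul_apply]
    by_cases hi : i = b
    · subst hi; rw [if_pos rfl, Pi.single_eq_same, smul_eq_mul, mul_one, zero_add]
    · rw [if_neg hi, Pi.single_eq_of_ne hi, smul_zero, add_zero]
  have hoff : Off a b (fun i => if i = b then 0 else φ i) := ⟨by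
    show (if a = b then 0 else φ a) = 0
    rw [if_neg hab, hφ], by
    show (if b = b then 0 else φ b) = 0
    rw [if_pos rfl]⟩
  rw [e, ← Tr_mul (by rw [dot_single]; exact hoff.1) (by
    rw [dot_single, Pi.smul_apply, Pi.single_eq_of_ne hab, smul_zero])]
  refine mul_mem (h1 _ hoff) ?_
  rcases hF (φ b) with h2 | h2 <;> rw [h2]
  · rw [zero_smul, Tr_zero]; exact one_mem _
  · rw [one_smul]; exact hX

theorem BM_le {a b : ι} (hab : a ≠ b) {S : Subgroup (SpecialLinearGroup ι F)}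
    (hX : Tr (Pi.single a 1) (Pi.single b (1 : F)) ∈ S)
    (hS : ∀ w χ : ι → F, Off a b w → Off a b χ → χ ⬝ᵥ w = 0 → ∀ g ∈ S, Tr w χ * g * (Tr w χ)⁻¹ ∈ S)
    {x : ι → F} (hx : Off a b x) (hx0 : ∃ i, i ≠ a ∧ i ≠ b ∧ x i ≠ 0) (hmem : Tr x (Pi.single b 1) ∈ S) :
    BM F b ≤ S := by
  have h1 : ∀ y : ι → F, Off a b y → Tr y (Pi.single b 1) ∈ S := by
    intro y hy
    by_cases h0 : ∃ i, i ≠ a ∧ i ≠ b ∧ y i ≠ 0
    · obtain ⟨w, hw, e1, e2⟩ := sep1 hF hx0 h0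
      rw [dotProduct_comm] at e1 e2
      have hd : w ⬝ᵥ (y - x) = 0 := by rw [dotProduct_sub, e1, e2, sub_self]
      have hoff : Off a b (y - x) := ⟨by
        rw [Pi.sub_apply, hy.1, hx.1, sub_zero], by
        rw [Pi.sub_apply, hy.2, hx.2, sub_zero]⟩
      have h2 := hS (y - x) w hoff hw hd _ hmem
      have hfix : (Pi.single b 1 : ι → F) ᵥ* ((Tr (y - x) w)⁻¹).1 = Pi.single b 1 := by
        rw [← Tr_neg' hd, vecMul_Tr (by rw [dotProduct_neg, hd, neg_zero]), single_dot, Pi.neg_apply, hoff.2,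
          neg_zero, zero_smul, add_zero]
      rw [(conj_BM hfix hx.2).1, Tr_mulVec hd, e1, one_smul] at h2
      have e : x + (y - x) = y := by abel
      rwa [e] at h2
    · push Not at h0
      have e : y = 0 := by
        funext i
        by_cases ha : i = a
        · rw [ha, hy.1]; rfl
        by_cases hb : i = b
        · rw [hb, hy.2]; rfl
        exact h0 i ha hb
      rw [e, Tr_zero']; exact one_mem _
  rintro _ ⟨u, hu, rfl⟩
  have e : u = (fun i => if i = a then 0 else u i) + u a • Pi.single a 1 := by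
    funext i
    rw [Pi.add_apply, Pi.smul_apply]
    by_cases hi : i = a
    · subst hi; rw [if_pos rfl, Pi.single_eq_same, smul_eq_mul, mul_one, zero_add]
    · rw [if_neg hi, Pi.single_eq_of_ne hi, smul_zero, add_zero]
  have hoff : Off a b (fun i => if i = a then 0 else u i) := ⟨by
    show (if a = a then 0 else u a) = 0
    rw [if_pos rfl], by
    show (if b = a then 0 else u b) = 0
    rw [if_neg hab.symm, hu]⟩
  rw [e, ← Tr_mul' (by rw [single_dot]; exact hoff.2) (by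
    rw [single_dot, Pi.smul_apply, Pi.single_eq_of_ne hab.symm, smul_zero])]
  refine mul_mem (h1 _ hoff) ?_
  rcases hF (u a) with h2 | h2 <;> rw [h2]
  · rw [zero_smul, Tr_zero']; exact one_mem _
  · rw [one_smul]; exact hX

/-- **The invariant subgroups of `Q = AM BM` containing `z`.** -/
theorem le_of_mem {a b : ι} (hab : a ≠ b) {S : Subgroup (SpecialLinearGroup ι F)}
    (hX : Tr (Pi.single a 1) (Pi.single b (1 : F)) ∈ S)
    (hS : ∀ w χ : ι → F, Off a b w → Off a b χ → χ ⬝ᵥ w = 0 → ∀ g ∈ S, Tr w χ * g * (Tr w χ)⁻¹ ∈ S)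
    (h3 : ∀ i, i ≠ a → i ≠ b → ∃ j l, j ≠ a ∧ j ≠ b ∧ l ≠ a ∧ l ≠ b ∧ i ≠ j ∧ i ≠ l ∧ j ≠ l)
    {φ u : ι → F} (hφ : φ a = 0) (hu : u b = 0) (hφ0 : ∃ i, i ≠ a ∧ i ≠ b ∧ φ i ≠ 0)
    (hu0 : ∃ i, i ≠ a ∧ i ≠ b ∧ u i ≠ 0)
    (hmem : Tr (Pi.single a 1) φ * Tr u (Pi.single b 1) ∈ S) : AM F a ≤ S ∧ BM F b ≤ S := by
  constructor
  · obtain ⟨i, hia, hib, hi⟩ := hu0
    obtain ⟨j, l, hja, hjb, hla, hlb, hij, hil, hjl⟩ := h3 i hia hib
    obtain ⟨χ, w, hχ, hw, hχ0, e1, e2, e3⟩ := exists_pair hF (φ := φ) ⟨hia, hib⟩ ⟨hja, hjb⟩ ⟨hla, hlb⟩ hij hil hjl hi hφ0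
    refine AM_le hF hab hX hS (χ := -χ) ⟨by rw [Pi.neg_apply, hχ.1, neg_zero], by rw [Pi.neg_apply, hχ.2, neg_zero]⟩
      (by obtain ⟨i, h4, h5, h6⟩ := hχ0; exact ⟨i, h4, h5, by rw [Pi.neg_apply]; exact neg_ne_zero.2 h6⟩) ?_
    have h2 := hS w χ hw hχ e2 _ hmem
    have hfix : (Tr w χ).1 *ᵥ Pi.single a 1 = Pi.single a 1 := by
      rw [Tr_mulVec e2, dot_single, hχ.1, zero_smul, add_zero]
    have hfix' : (Pi.single b 1 : ι → F) ᵥ* ((Tr w χ)⁻¹).1 = Pi.single b 1 := by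
      rw [← Tr_neg' e2, vecMul_Tr (by rw [dotProduct_neg, e2, neg_zero]), single_dot, Pi.neg_apply, hw.2,
        neg_zero, zero_smul, add_zero]
    have e : Tr w χ * (Tr (Pi.single a 1) φ * Tr u (Pi.single b 1)) * (Tr w χ)⁻¹ =
        Tr (Pi.single a 1) (-χ) * (Tr (Pi.single a 1) φ * Tr u (Pi.single b 1)) := by
      calc Tr w χ * (Tr (Pi.single a 1) φ * Tr u (Pi.single b 1)) * (Tr w χ)⁻¹
          = (Tr w χ * Tr (Pi.single a 1) φ * (Tr w χ)⁻¹) * (Tr w χ * Tr u (Pi.single b 1) * (Tr w χ)⁻¹) := by group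
        _ = Tr (Pi.single a 1) (-χ + φ) * Tr u (Pi.single b 1) := by
          rw [(conj_AM hfix hφ).1, (conj_BM hfix' hu).1, Tr_mulVec e2, e1, zero_smul, add_zero, ← Tr_neg e2,
            vecMul_Tr (by rw [neg_dotProduct, e2, neg_zero]), e3, one_smul, add_comm φ]
        _ = _ := by
          rw [← Tr_mul (by rw [dot_single, Pi.neg_apply, hχ.1, neg_zero]) (by rw [dot_single, hφ]), mul_assoc]
    rw [e] at h2
    have h4 := mul_mem h2 (inv_mem hmem)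
    rwa [mul_inv_cancel_right] at h4
  · obtain ⟨i, hia, hib, hi⟩ := hφ0
    obtain ⟨j, l, hja, hjb, hla, hlb, hij, hil, hjl⟩ := h3 i hia hib
    obtain ⟨w, χ, hw, hχ, hw0, e1, e2, e3⟩ := exists_pair hF (φ := u) ⟨hia, hib⟩ ⟨hja, hjb⟩ ⟨hla, hlb⟩ hij hil hjl hi hu0
    rw [dotProduct_comm] at e1 e2 e3
    refine BM_le hF hab hX hS (x := w) hw hw0 ?_
    have h2 := hS w χ hw hχ e2 _ hmem
    have hfix : (Tr w χ).1 *ᵥ Pi.single a 1 = Pi.single a 1 := by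
      rw [Tr_mulVec e2, dot_single, hχ.1, zero_smul, add_zero]
    have hfix' : (Pi.single b 1 : ι → F) ᵥ* ((Tr w χ)⁻¹).1 = Pi.single b 1 := by
      rw [← Tr_neg' e2, vecMul_Tr (by rw [dotProduct_neg, e2, neg_zero]), single_dot, Pi.neg_apply, hw.2,
        neg_zero, zero_smul, add_zero]
    have e : Tr w χ * (Tr (Pi.single a 1) φ * Tr u (Pi.single b 1)) * (Tr w χ)⁻¹ =
        (Tr (Pi.single a 1) φ * Tr u (Pi.single b 1)) * Tr w (Pi.single b 1) := by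
      calc Tr w χ * (Tr (Pi.single a 1) φ * Tr u (Pi.single b 1)) * (Tr w χ)⁻¹
          = (Tr w χ * Tr (Pi.single a 1) φ * (Tr w χ)⁻¹) * (Tr w χ * Tr u (Pi.single b 1) * (Tr w χ)⁻¹) := by group
        _ = Tr (Pi.single a 1) φ * Tr (u + w) (Pi.single b 1) := by
          rw [(conj_AM hfix hφ).1, (conj_BM hfix' hu).1, Tr_mulVec e2, e3, one_smul, ← Tr_neg e2,
            vecMul_Tr (by rw [neg_dotProduct, e2, neg_zero]), e1, zero_smul, add_zero]
        _ = _ := by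
          rw [← Tr_mul' (by rw [single_dot, hu]) (by rw [single_dot, hw.2]), mul_assoc]
    rw [e] at h2
    have h4 := mul_mem (inv_mem hmem) h2
    rwa [inv_mul_cancel_left] at h4

end Cfsg.Agent.OddHalf.D7An.Two
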