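import Cfsg.Agent.OddHalf.D7An.Two
import Cfsg.Agent.OddHalf.D7Ex.TwoA

/-!
# The facts `TwoA.Two` for `K = SL_m(2)`, `m ≥ 5` (ODD D7; helper991)

`f : SL ι F →* G` injective, `|F| = 2`, `K = f(SL)` centralised by `t`; `a ≠ b`, `X = f{1, 1 + e_a e_b*}`,
`Q = f(AM BM)`, `P` between the group generated by the root elements fixing `e_a`, `e_b*` and their stabiliser.
-/

set_option autoImplicit false
set_option linter.unusedSectionVars false

namespace Cfsg.Agent.OddHalf.D7An.TwoInst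

open Matrix Cfsg.Agent.OddHalf.D7An.Mat Cfsg.Agent.OddHalf.D7An.Two
open Cfsg.Agent.TitsThree.KSideA (tv tv_of_ne tv_add tv_zero tv_neg)

variable {ι F G : Type*} [Field F] [DecidableEq ι] [Fintype ι] [Group G]

/-- The groups `X`, `Q`, `P`. -/
structure Loc (f : SpecialLinearGroup ι F →* G) (a b : ι) (X Q P : Subgroup G) : Prop where
  X : ∀ x, x ∈ X ↔ x = 1 ∨ x = f (Tr (Pi.single a 1) (Pi.single b 1))
  Q : ∀ q, q ∈ Q ↔ ∃ φ u : ι → F, φ a = 0 ∧ u b = 0 ∧ q = f (Tr (Pi.single a 1) φ * Tr u (Pi.single b 1))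
  P1 : ∀ i j, i ≠ j → j ≠ a → i ≠ b → ∀ c, f (tv i j c) ∈ P
  P2 : ∀ p ∈ P, ∃ g : SpecialLinearGroup ι F, p = f g ∧ g.1 *ᵥ Pi.single a 1 = Pi.single a 1 ∧
    (Pi.single b 1 : ι → F) ᵥ* g.1 = Pi.single b 1

variable {f : SpecialLinearGroup ι F →* G} {a b : ι} {X Q P : Subgroup G}

theorem inv_fix {g : SpecialLinearGroup ι F} (h : (Pi.single b 1 : ι → F) ᵥ* g.1 = Pi.single b 1) :
    (Pi.single b 1 : ι → F) ᵥ* (g⁻¹).1 = Pi.single b 1 := by
  have : (Pi.single b 1 : ι → F) ᵥ* (g.1 * (g⁻¹).1) = Pi.single b 1 := by rw [coe_mul_inv, vecMul_one]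
  rwa [← vecMul_vecMul, h] at this

theorem inv_fix' {g : SpecialLinearGroup ι F} (h : g.1 *ᵥ (Pi.single a 1 : ι → F) = Pi.single a 1) :
    (g⁻¹).1 *ᵥ (Pi.single a 1 : ι → F) = Pi.single a 1 := by
  have : ((g⁻¹).1 * g.1) *ᵥ (Pi.single a 1 : ι → F) = Pi.single a 1 := by rw [coe_inv_mul, one_mulVec]
  rwa [← mulVec_mulVec, h] at this

variable (hF : ∀ x : F, x = 0 ∨ x = 1)

include hF

theorem tr_e_mem (L : Loc f a b X Q P) {φ : ι → F} (h : ∀ i, i ≠ b → φ i = 0) :
    f (Tr (Pi.single a 1) φ) ∈ X := by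
  rw [L.X]
  by_cases hb : φ b = 0
  · left
    have : φ = 0 := by
      funext i
      by_cases hi : i = b
      · rw [hi, hb]; rfl
      · exact h i hi
    rw [this, Tr_zero, map_one]
  · right
    have : φ = Pi.single b 1 := by
      funext i
      by_cases hi : i = b
      · rw [hi, Pi.single_eq_same]; exact eq_one hF hb
      · rw [h i hi, Pi.single_eq_of_ne hi]
    rw [this]

theorem tr_e_mem' (L : Loc f a b X Q P) {u : ι → F} (h : ∀ i, i ≠ a → u i = 0) :
    f (Tr u (Pi.single b 1)) ∈ X := by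
  rw [L.X]
  by_cases hb : u a = 0
  · left
    have : u = 0 := by
      funext i
      by_cases hi : i = a
      · rw [hi, hb]; rfl
      · exact h i hi
    rw [this, Tr_zero', map_one]
  · right
    have : u = Pi.single a 1 := by
      funext i
      by_cases hi : i = a
      · rw [hi, Pi.single_eq_same]; exact eq_one hF hb
      · rw [h i hi, Pi.single_eq_of_ne hi]
    rw [this]

omit hF in
theorem of_mem_X (L : Loc f a b X Q P) (hf : Function.Injective f) {φ : ι → F} (hφ : φ a = 0) (hab : a ≠ b)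
    (h : f (Tr (Pi.single a 1) φ) ∈ X) {i : ι} (hi : i ≠ b) : φ i = 0 := by
  have h0 : φ ⬝ᵥ (Pi.single a 1 : ι → F) = 0 := by rw [dot_single, hφ]
  have h1 : (Pi.single b 1 : ι → F) ⬝ᵥ (Pi.single a 1 : ι → F) = 0 := by rw [dot_single, Pi.single_eq_of_ne hab]
  have ha : (Pi.single a 1 : ι → F) a ≠ 0 := by rw [Pi.single_eq_same]; exact one_ne_zero
  rw [L.X] at h
  rcases h with h | h
  · rw [← map_one f, ← Tr_zero (Pi.single a 1)] at h
    rw [Tr_inj ha h0 (zero_dotProduct _) (hf h)]; rfl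
  · rw [Tr_inj ha h0 h1 (hf h), Pi.single_eq_of_ne hi]

theorem emb_P (L : Loc f a b X Q P) (D : SpecialLinearGroup {i // i ≠ a ∧ i ≠ b} F) :
    f (emb (fun i => i ≠ a ∧ i ≠ b) D) ∈ P := by
  have := emb_mem (H := P.comap f) (fun i => i ≠ a ∧ i ≠ b) (fun i j hi hj hij c => L.P1 i j hij hj.1 hi.2 c) D
  exact this

/-- **The facts `Two`.** -/
theorem two {t : G} (hf : Function.Injective f) (hab : a ≠ b) (L : Loc f a b X Q P)
    (ht : ∀ g, f g * t = t * f g)
    (h3 : ∀ i, i ≠ a → i ≠ b → ∃ j l, j ≠ a ∧ j ≠ b ∧ l ≠ a ∧ l ≠ b ∧ i ≠ j ∧ i ≠ l ∧ j ≠ l)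
    (hex : ∃ i, i ≠ a ∧ i ≠ b) :
    D7Ex.TwoA.Two t (f (Tr (Pi.single a 1) (Pi.single b 1))) X Q P ((AM F a).map f) ((BM F b).map f) := by
  have h11 := one_add_one hF
  have hone : ∀ c : ι → F, c ⬝ᵥ (0 : ι → F) = 0 := fun c => dotProduct_zero c
  have dab : (Pi.single b 1 : ι → F) a = 0 := Pi.single_eq_of_ne hab _
  have dba : (Pi.single a 1 : ι → F) b = 0 := Pi.single_eq_of_ne hab.symm _
  have hzX : f (Tr (Pi.single a 1) (Pi.single b 1)) ∈ X := (L.X _).2 (Or.inr rfl)
  have hX1 : X ≤ (AM F a).map f := by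
    intro x hx
    rcases (L.X x).1 hx with rfl | rfl
    · exact one_mem _
    · exact ⟨_, ⟨_, dab, rfl⟩, rfl⟩
  have hX2 : X ≤ (BM F b).map f := by
    intro x hx
    rcases (L.X x).1 hx with rfl | rfl
    · exact one_mem _
    · exact ⟨_, ⟨_, dba, rfl⟩, rfl⟩
  have hAQ : (AM F a).map f ≤ Q := by
    rintro _ ⟨_, ⟨φ, hφ, rfl⟩, rfl⟩
    rw [L.Q]
    exact ⟨φ, 0, hφ, rfl, by rw [Tr_zero', mul_one]⟩
  have hBQ : (BM F b).map f ≤ Q := by
    rintro _ ⟨_, ⟨u, hu, rfl⟩, rfl⟩
    rw [L.Q]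
    exact ⟨0, u, rfl, hu, by rw [Tr_zero, one_mul]⟩
  obtain ⟨i0, hi0a, hi0b⟩ := hex
  -- an element of `AM` outside `X`, `BM`
  have hsi : (Pi.single i0 1 : ι → F) a = 0 := Pi.single_eq_of_ne hi0a.symm _
  have hsi' : (Pi.single i0 1 : ι → F) b = 0 := Pi.single_eq_of_ne hi0b.symm _
  have d1 : (Pi.single i0 1 : ι → F) ⬝ᵥ (Pi.single a 1 : ι → F) = 0 := by rw [dot_single, hsi]
  have d2 : (Pi.single b 1 : ι → F) ⬝ᵥ (Pi.single i0 1 : ι → F) = 0 := by rw [single_dot, hsi']
  have hAmem : f (Tr (Pi.single a 1) (Pi.single i0 1)) ∈ (AM F a).map f := ⟨_, ⟨_, hsi, rfl⟩, rfl⟩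
  have hBmem : f (Tr (Pi.single i0 1) (Pi.single b 1)) ∈ (BM F b).map f := ⟨_, ⟨_, hsi', rfl⟩, rfl⟩
  have hAB : f (Tr (Pi.single a 1) (Pi.single i0 1)) ∉ (BM F b).map f := by
    rintro ⟨_, ⟨u, hu, rfl⟩, e⟩
    have e1 := congrArg (fun g : SpecialLinearGroup ι F => g.1 a i0) (hf e)
    simp only [Tr_apply d1, Tr_apply (show (Pi.single b 1 : ι → F) ⬝ᵥ u = 0 by rw [single_dot, hu])] at e1
    rw [Pi.single_eq_same, Pi.single_eq_same, Pi.single_eq_of_ne hi0b, mul_zero, mul_one, add_zero,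
      one_apply_ne hi0a.symm, zero_add] at e1
    exact zero_ne_one e1
  have hBA : f (Tr (Pi.single i0 1) (Pi.single b 1)) ∉ (AM F a).map f := by
    rintro ⟨_, ⟨φ, hφ, rfl⟩, e⟩
    have e1 := congrArg (fun g : SpecialLinearGroup ι F => g.1 i0 b) (hf e)
    simp only [Tr_apply d2, Tr_apply (show φ ⬝ᵥ (Pi.single a 1 : ι → F) = 0 by rw [dot_single, hφ])] at e1
    rw [Pi.single_eq_same, Pi.single_eq_same, Pi.single_eq_of_ne hi0a, zero_mul, mul_one, add_zero,
      one_apply_ne hi0b, zero_add] at e1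
    exact zero_ne_one e1
  have hP1 : ∀ p ∈ P, ∀ r ∈ (AM F a).map f, p * r * p⁻¹ ∈ (AM F a).map f := by
    rintro p hp _ ⟨_, ⟨φ, hφ, rfl⟩, rfl⟩
    obtain ⟨g, rfl, hg1, hg2⟩ := L.P2 p hp
    obtain ⟨e1, e2⟩ := conj_AM hg1 hφ
    exact ⟨_, ⟨_, e2, rfl⟩, by rw [← e1, map_mul, map_mul, map_inv]⟩
  have hP2 : ∀ p ∈ P, ∀ r ∈ (BM F b).map f, p * r * p⁻¹ ∈ (BM F b).map f := by
    rintro p hp _ ⟨_, ⟨u, hu, rfl⟩, rfl⟩
    obtain ⟨g, rfl, hg1, hg2⟩ := L.P2 p hp
    obtain ⟨e1, e2⟩ := conj_BM (inv_fix hg2) hu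
    exact ⟨_, ⟨_, e2, rfl⟩, by rw [← e1, map_mul, map_mul, map_inv]⟩
  -- the Levi transvections lie in `P`
  have hLevi : ∀ w χ : ι → F, Off a b w → Off a b χ → χ ⬝ᵥ w = 0 → f (Tr w χ) ∈ P := by
    intro w χ hw hχ h0
    let D : Matrix {i // i ≠ a ∧ i ≠ b} {i // i ≠ a ∧ i ≠ b} F :=
      1 + vecMulVec (fun i : {i // i ≠ a ∧ i ≠ b} => w i.1) (fun i : {i // i ≠ a ∧ i ≠ b} => χ i.1)
    have hDe : embM (fun i => i ≠ a ∧ i ≠ b) D = (Tr w χ).1 := by
      ext i j
      rw [embM_apply, Tr_apply h0]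
      split_ifs with hc
      · show (1 + vecMulVec (fun i : {i // i ≠ a ∧ i ≠ b} => w i.1) (fun i : {i // i ≠ a ∧ i ≠ b} => χ i.1))
          ⟨i, hc.1⟩ ⟨j, hc.2⟩ = _
        rw [Matrix.add_apply, vecMulVec_apply, one_apply, one_apply]
        simp only [Subtype.mk.injEq]
      · have : w i * χ j = 0 := by
          by_contra h5
          apply hc
          refine ⟨⟨?_, ?_⟩, ⟨?_, ?_⟩⟩
          · rintro rfl; apply h5; rw [hw.1, zero_mul]
          · rintro rfl; apply h5; rw [hw.2, zero_mul]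
          · rintro rfl; apply h5; rw [hχ.1, mul_zero]
          · rintro rfl; apply h5; rw [hχ.2, mul_zero]
        rw [this, add_zero]
    have hDdet : D.det = 1 := by
      rw [← det_embM (fun i => i ≠ a ∧ i ≠ b) D, hDe]
      exact (Tr w χ).2
    have := emb_P hF L ⟨D, hDdet⟩
    have e : emb (fun i => i ≠ a ∧ i ≠ b) ⟨D, hDdet⟩ = Tr w χ := slext hDe
    rwa [e] at this
  have hS : ∀ R : Subgroup G, (∀ p ∈ P, ∀ r ∈ R, p * r * p⁻¹ ∈ R) → ∀ w χ : ι → F, Off a b w → Off a b χ →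
      χ ⬝ᵥ w = 0 → ∀ g ∈ R.comap f, Tr w χ * g * (Tr w χ)⁻¹ ∈ R.comap f := by
    intro R hR w χ hw hχ h0 g hg
    rw [Subgroup.mem_comap, map_mul, map_mul, map_inv]
    exact hR _ (hLevi w χ hw hχ h0) _ hg
  refine
    { hX := fun x hx => (L.X x).1 hx
      zX := hzX
      X1 := hX1
      X2 := hX2
      R1Q := hAQ
      R2Q := hBQ
      ne := fun e => hAB (by rw [← e]; exact hAmem)
      only := ?_
      P1 := hP1
      P2 := hP2
      X1' := fun e => hAB (hX2 (by rw [← e]; exact hAmem))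
      X2' := fun e => hBA (hX1 (by rw [← e]; exact hBmem))
      Q1' := fun e => hBA (by rw [e]; exact hBQ hBmem)
      Q2' := fun e => hAB (by rw [e]; exact hAQ hAmem)
      tr1 := ?_
      tr2 := ?_
      gl := ?_
      faith := ?_ }
  · -- only
    intro R hXR hRQ hRP
    have hXR' : Tr (Pi.single a 1) (Pi.single b (1 : F)) ∈ R.comap f := hXR hzX
    by_cases hout : ∃ φ u : ι → F, φ a = 0 ∧ u b = 0 ∧ (∃ i, i ≠ a ∧ i ≠ b ∧ φ i ≠ 0) ∧ (∃ i, i ≠ a ∧ i ≠ b ∧ u i ≠ 0) ∧
        f (Tr (Pi.single a 1) φ * Tr u (Pi.single b 1)) ∈ R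
    · obtain ⟨φ, u, hφ, hu, hφ0, hu0, hm⟩ := hout
      obtain ⟨hA, hB⟩ := le_of_mem hF hab hXR' (hS R hRP) h3 hφ hu hφ0 hu0 hm
      right; right; right
      refine le_antisymm hRQ ?_
      intro q hq
      obtain ⟨φ', u', hφ', hu', rfl⟩ := (L.Q q).1 hq
      rw [map_mul]
      exact mul_mem (hA ⟨φ', hφ', rfl⟩) (hB ⟨u', hu', rfl⟩)
    · push Not at hout
      -- every element lies in `R₁ ∪ R₂`
      have hun : ∀ r ∈ R, r ∈ (AM F a).map f ∨ r ∈ (BM F b).map f := by
        intro r hr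
        obtain ⟨φ, u, hφ, hu, rfl⟩ := (L.Q r).1 (hRQ hr)
        by_cases h5 : ∃ i, i ≠ a ∧ i ≠ b ∧ φ i ≠ 0
        · by_cases h6 : ∃ i, i ≠ a ∧ i ≠ b ∧ u i ≠ 0
          · exact absurd hr (hout φ u hφ hu h5 h6)
          · left
            push Not at h6
            rw [map_mul]
            refine mul_mem ⟨_, ⟨φ, hφ, rfl⟩, rfl⟩ (hX1 (tr_e_mem' hF L fun i hi => ?_))
            by_cases hib : i = b
            · rw [hib, hu]
            · exact h6 i hi hib
        · right
          push Not at h5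
          rw [map_mul]
          refine mul_mem (hX2 (tr_e_mem hF L fun i hi => ?_)) ⟨_, ⟨u, hu, rfl⟩, rfl⟩
          by_cases hia : i = a
          · rw [hia, hφ]
          · exact h5 i hia hi
      have hor : R ≤ (AM F a).map f ∨ R ≤ (BM F b).map f := by
        by_contra hcon
        rw [not_or, SetLike.not_le_iff_exists, SetLike.not_le_iff_exists] at hcon
        obtain ⟨⟨x, hx, hxA⟩, ⟨y, hy, hyB⟩⟩ := hcon
        have hxB := (hun x hx).resolve_left hxA
        have hyA := (hun y hy).resolve_right hyB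
        rcases hun _ (mul_mem hx hy) with h5 | h5
        · apply hxA
          have := mul_mem h5 (inv_mem hyA)
          rwa [mul_inv_cancel_right] at this
        · apply hyB
          have := mul_mem (inv_mem hxB) h5
          rwa [inv_mul_cancel_left] at this
      rcases hor with hle | hle
      · by_cases hRX : R ≤ X
        · exact Or.inl (le_antisymm hRX hXR)
        · right; left
          refine le_antisymm hle ?_
          obtain ⟨r, hr, hrX⟩ := Set.not_subset.1 hRX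
          obtain ⟨_, ⟨φ, hφ, rfl⟩, rfl⟩ := hle hr
          have h6 : ∃ i, i ≠ a ∧ i ≠ b ∧ φ i ≠ 0 := by
            by_contra h7
            push Not at h7
            apply hrX
            refine tr_e_mem hF L fun i hi => ?_
            by_cases hia : i = a
            · rw [hia, hφ]
            · exact h7 i hia hi
          -- remove the `b` component
          let χ : ι → F := fun i => if i = b then 0 else φ i
          have hχ : Off a b χ := ⟨by
            show (if a = b then 0 else φ a) = 0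
            rw [if_neg hab, hφ], by
            show (if b = b then 0 else φ b) = 0
            rw [if_pos rfl]⟩
          have hχ0 : ∃ i, i ≠ a ∧ i ≠ b ∧ χ i ≠ 0 := by
            obtain ⟨i, h7, h8, h9⟩ := h6
            exact ⟨i, h7, h8, by
              show (if i = b then 0 else φ i) ≠ 0
              rwa [if_neg h8]⟩
          have hd : (φ - χ) ⬝ᵥ (Pi.single a 1 : ι → F) = 0 := by
            rw [dot_single, Pi.sub_apply, hφ, hχ.1, sub_zero]
          have hm : Tr (Pi.single a 1) χ ∈ R.comap f := by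
            have h7 : f (Tr (Pi.single a 1) (φ - χ)) ∈ X := by
              refine tr_e_mem hF L fun i hi => ?_
              show φ i - (if i = b then 0 else φ i) = 0
              rw [if_neg hi, sub_self]
            have h8 := mul_mem (inv_mem (hXR h7)) hr
            rw [← map_inv, ← map_mul, ← Tr_neg hd, Tr_mul (by rw [neg_dotProduct, hd, neg_zero]) (by
              rw [dot_single, hφ])] at h8
            have e : -(φ - χ) + φ = χ := by abel
            rwa [e] at h8
          have := AM_le hF hab hXR' (hS R hRP) hχ hχ0 hm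
          rintro _ ⟨g, hg, rfl⟩
          exact this hg
      · by_cases hRX : R ≤ X
        · exact Or.inl (le_antisymm hRX hXR)
        · right; right; left
          refine le_antisymm hle ?_
          obtain ⟨r, hr, hrX⟩ := Set.not_subset.1 hRX
          obtain ⟨_, ⟨u, hu, rfl⟩, rfl⟩ := hle hr
          have h6 : ∃ i, i ≠ a ∧ i ≠ b ∧ u i ≠ 0 := by
            by_contra h7
            push Not at h7
            apply hrX
            refine tr_e_mem' hF L fun i hi => ?_
            by_cases hib : i = b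
            · rw [hib, hu]
            · exact h7 i hi hib
          let x : ι → F := fun i => if i = a then 0 else u i
          have hx : Off a b x := ⟨by
            show (if a = a then 0 else u a) = 0
            rw [if_pos rfl], by
            show (if b = a then 0 else u b) = 0
            rw [if_neg hab.symm, hu]⟩
          have hx0 : ∃ i, i ≠ a ∧ i ≠ b ∧ x i ≠ 0 := by
            obtain ⟨i, h7, h8, h9⟩ := h6
            exact ⟨i, h7, h8, by
              show (if i = a then 0 else u i) ≠ 0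
              rwa [if_neg h7]⟩
          have hd : (Pi.single b 1 : ι → F) ⬝ᵥ (u - x) = 0 := by
            rw [single_dot, Pi.sub_apply, hu, hx.2, sub_zero]
          have hm : Tr x (Pi.single b 1) ∈ R.comap f := by
            have h7 : f (Tr (u - x) (Pi.single b 1)) ∈ X := by
              refine tr_e_mem' hF L fun i hi => ?_
              show u i - (if i = a then 0 else u i) = 0
              rw [if_neg hi, sub_self]
            have h8 := mul_mem (inv_mem (hXR h7)) hr
            rw [← map_inv, ← map_mul, ← Tr_neg' hd, Tr_mul' (by rw [dotProduct_neg, hd, neg_zero]) (by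
              rw [single_dot, hu])] at h8
            have e : -(u - x) + u = x := by abel
            rwa [e] at h8
          have := BM_le hF hab hXR' (hS R hRP) hx hx0 hm
          rintro _ ⟨g, hg, rfl⟩
          exact this hg
  · -- tr1
    rintro _ ⟨_, ⟨φ, hφ, rfl⟩, rfl⟩ hne
    have hφ0 : φ ≠ 0 := by
      rintro rfl
      exact hne (by rw [Tr_zero, map_one])
    obtain ⟨g, hg1, hg2⟩ := trA hF hab hφ hφ0
    refine ⟨f g, ht g, ?_, ?_⟩
    · rw [← map_mul, ← map_inv, ← map_mul, (conj_AM hg1 dab).1, hg2]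
    · apply le_antisymm
      · rintro _ ⟨_, ⟨_, ⟨ψ, hψ, rfl⟩, rfl⟩, rfl⟩
        obtain ⟨e1, e2⟩ := conj_AM hg1 hψ
        refine ⟨_, ⟨_, e2, rfl⟩, ?_⟩
        rw [← e1, map_mul, map_mul, map_inv]; rfl
      · rintro _ ⟨_, ⟨ψ, hψ, rfl⟩, rfl⟩
        obtain ⟨e1, e2⟩ := conj_AM (inv_fix' hg1) hψ
        rw [D7Ex.TwoA.mem_cj]
        refine ⟨_, ⟨_, e2, rfl⟩, ?_⟩
        rw [← e1, inv_inv, map_mul, map_mul, map_inv]
  · -- tr2
    rintro _ ⟨_, ⟨u, hu, rfl⟩, rfl⟩ hne
    have hu0 : u ≠ 0 := by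
      rintro rfl
      exact hne (by rw [Tr_zero', map_one])
    obtain ⟨g, hg1, hg2⟩ := trB hF hab hu hu0
    refine ⟨f g, ht g, ?_, ?_⟩
    · rw [← map_mul, ← map_inv, ← map_mul, (conj_BM hg1 dba).1, hg2]
    · apply le_antisymm
      · rintro _ ⟨_, ⟨_, ⟨y, hy, rfl⟩, rfl⟩, rfl⟩
        obtain ⟨e1, e2⟩ := conj_BM hg1 hy
        refine ⟨_, ⟨_, e2, rfl⟩, ?_⟩
        rw [← e1, map_mul, map_mul, map_inv]; rfl
      · rintro _ ⟨_, ⟨y, hy, rfl⟩, rfl⟩
        have hg1' : (Pi.single b 1 : ι → F) ᵥ* (g⁻¹⁻¹).1 = Pi.single b 1 := inv_fix hg1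
        obtain ⟨e1, e2⟩ := conj_BM hg1' hy
        rw [D7Ex.TwoA.mem_cj]
        refine ⟨_, ⟨_, e2, rfl⟩, ?_⟩
        rw [← e1, inv_inv, map_mul, map_mul, map_inv]
  · -- gl
    intro h hR hmul hX
    have hrow : ∀ i : ι, i ≠ a → ∃ φ : ι → F, φ a = 0 ∧ h (f (Tr (Pi.single a 1) (Pi.single i 1))) =
        f (Tr (Pi.single a 1) φ) := by
      intro i hi
      obtain ⟨_, ⟨φ, hφ, rfl⟩, e⟩ := hR _ ⟨_, ⟨Pi.single i 1, Pi.single_eq_of_ne hi.symm _, rfl⟩, rfl⟩
      exact ⟨φ, hφ, e.symm⟩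
    choose! ρ hρ hρe using hrow
    -- `h` in coordinates
    have h1 : h 1 = 1 := by
      have := hmul 1 (one_mem _) 1 (one_mem _)
      rw [one_mul] at this
      exact left_eq_mul.1 this
    have hlin : ∀ (S : Finset ι) (c : ι → F), a ∉ S →
        h (f (Tr (Pi.single a 1) (∑ i ∈ S, c i • Pi.single i 1))) = f (Tr (Pi.single a 1) (∑ i ∈ S, c i • ρ i)) := by
      intro S c
      induction S using Finset.induction_on with
      | empty => intro _; rw [Finset.sum_empty, Finset.sum_empty, Tr_zero, map_one, h1]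
      | insert i S hi ih =>
        intro ha
        have hia : i ≠ a := fun e => ha (e ▸ Finset.mem_insert_self i S)
        have haS : a ∉ S := fun e => ha (Finset.mem_insert_of_mem e)
        have z1 : (c i • (Pi.single i 1 : ι → F)) ⬝ᵥ (Pi.single a 1 : ι → F) = 0 := by
          rw [dot_single, Pi.smul_apply, Pi.single_eq_of_ne hia.symm, smul_zero]
        have z2 : (∑ i ∈ S, c i • (Pi.single i 1 : ι → F)) ⬝ᵥ (Pi.single a 1 : ι → F) = 0 := by
          rw [dot_single, Finset.sum_apply]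
          refine Finset.sum_eq_zero fun l hl => ?_
          rw [Pi.smul_apply, Pi.single_eq_of_ne, smul_zero]
          rintro rfl; exact haS hl
        have z3 : (c i • ρ i) ⬝ᵥ (Pi.single a 1 : ι → F) = 0 := by
          rw [dot_single, Pi.smul_apply, hρ i hia, smul_zero]
        have z4 : (∑ i ∈ S, c i • ρ i) ⬝ᵥ (Pi.single a 1 : ι → F) = 0 := by
          rw [dot_single, Finset.sum_apply]
          refine Finset.sum_eq_zero fun l hl => ?_
          rw [Pi.smul_apply, hρ l (by rintro rfl; exact haS hl), smul_zero]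
        have z1' : (c i • (Pi.single i 1 : ι → F)) a = 0 := (dot_single _ _).symm.trans z1
        have z2' : (∑ i ∈ S, c i • (Pi.single i 1 : ι → F)) a = 0 := (dot_single _ _).symm.trans z2
        rw [Finset.sum_insert hi, Finset.sum_insert hi, ← Tr_mul z1 z2, ← Tr_mul z3 z4, map_mul, map_mul,
          hmul _ ⟨_, ⟨_, z1', rfl⟩, rfl⟩ _ ⟨_, ⟨_, z2', rfl⟩, rfl⟩, ih haS]
        congr 1
        rcases hF (c i) with e | e <;> rw [e]
        · rw [zero_smul, zero_smul, Tr_zero, map_one, h1]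
        · rw [one_smul, one_smul]; exact hρe i hia
    have hφsum : ∀ φ : ι → F, φ a = 0 → φ = ∑ i ∈ Finset.univ.erase a, φ i • Pi.single i 1 := by
      intro φ hφ
      funext k
      rw [Finset.sum_apply]
      by_cases hk : k = a
      · rw [hk, hφ]
        symm
        refine Finset.sum_eq_zero fun l hl => ?_
        rw [Pi.smul_apply, Pi.single_eq_of_ne, smul_zero]
        exact (Finset.ne_of_mem_erase hl).symm
      · rw [Finset.sum_eq_single k]
        · rw [Pi.smul_apply, Pi.single_eq_same, smul_eq_mul, mul_one]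
        · intro l _ hl; rw [Pi.smul_apply, Pi.single_eq_of_ne hl.symm, smul_zero]
        · intro h; exact absurd (Finset.mem_erase.2 ⟨hk, Finset.mem_univ k⟩) h
    have hval : ∀ φ : ι → F, φ a = 0 → h (f (Tr (Pi.single a 1) φ)) =
        f (Tr (Pi.single a 1) (∑ i ∈ Finset.univ.erase a, φ i • ρ i)) := by
      intro φ hφ
      conv_lhs => rw [hφsum φ hφ]
      exact hlin _ _ (Finset.notMem_erase a _)
    -- `ρ b` is supported at `b`
    have hρb : ∀ i, i ≠ b → ρ b i = 0 := by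
      intro i hi
      refine of_mem_X L hf (hρ b hab.symm) hab ?_ hi
      rw [← hρe b hab.symm]
      exact (hX _ ⟨_, ⟨_, dab, rfl⟩, rfl⟩).2 hzX
    -- the matrix
    let N : Matrix {i // i ≠ a ∧ i ≠ b} {i // i ≠ a ∧ i ≠ b} F := fun i j => ρ i.1 j.1
    have hN : N.det ≠ 0 := by
      intro hdet
      obtain ⟨v, hv0, hv⟩ := exists_vecMul_eq_zero_iff.2 hdet
      apply hv0
      let φ : ι → F := fun i => if hc : i ≠ a ∧ i ≠ b then v ⟨i, hc⟩ else 0
      have hφa : φ a = 0 := dif_neg (fun hc => hc.1 rfl)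
      have hφb : φ b = 0 := dif_neg (fun hc => hc.2 rfl)
      have hin : f (Tr (Pi.single a 1) (∑ i ∈ Finset.univ.erase a, φ i • ρ i)) ∈ X := by
        refine tr_e_mem hF L fun j hj => ?_
        rw [Finset.sum_apply]
        by_cases hja : j = a
        · refine Finset.sum_eq_zero fun i hi => ?_
          rw [Pi.smul_apply, hja, hρ i (Finset.ne_of_mem_erase hi), smul_zero]
        · have hvj := congrFun hv ⟨j, hja, hj⟩
          rw [vecMul, dotProduct] at hvj
          have e1 : ∑ i ∈ Finset.univ.erase a, (φ i • ρ i) j = ∑ i : ι, φ i * ρ i j := by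
            rw [← Finset.add_sum_erase _ _ (Finset.mem_univ a), hφa, zero_mul, zero_add]
            rfl
          rw [e1]
          have e2 : ∑ i : ι, φ i * ρ i j = ∑ i : {i // i ≠ a ∧ i ≠ b}, v i * ρ i.1 j := by
            have e3 : ∑ i : ι, φ i * ρ i j = ∑ i ∈ Finset.univ.filter (fun i => i ≠ a ∧ i ≠ b), φ i * ρ i j := by
              symm
              refine Finset.sum_subset (Finset.filter_subset _ _) fun i _ hi => ?_
              have : φ i = 0 := dif_neg (fun hc => hi (Finset.mem_filter.2 ⟨Finset.mem_univ i, hc⟩))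
              rw [this, zero_mul]
            rw [e3, Finset.sum_subtype (p := fun i => i ≠ a ∧ i ≠ b) _ (fun x => by simp) (fun i => φ i * ρ i j)]
            refine Finset.sum_congr rfl fun i _ => ?_
            have : φ i.1 = v i := dif_pos i.2
            rw [this]
          rw [e2]
          exact hvj
      have h5 := (hX _ ⟨_, ⟨φ, hφa, rfl⟩, rfl⟩).1 (by rw [hval φ hφa]; exact hin)
      funext i
      have h6 := of_mem_X L hf hφa hab h5 i.2.2
      have h7 : φ i.1 = v i := dif_pos i.2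
      rw [← h7, h6]; rfl
    have hN1 : N.det = 1 := eq_one hF hN
    let D : SpecialLinearGroup {i // i ≠ a ∧ i ≠ b} F := ⟨N, hN1⟩
    refine ⟨f (emb _ D⁻¹), emb_P hF L _, ?_⟩
    rintro _ ⟨_, ⟨φ, hφ, rfl⟩, rfl⟩
    have hfix : (emb (fun i => i ≠ a ∧ i ≠ b) D⁻¹).1 *ᵥ (Pi.single a 1 : ι → F) = Pi.single a 1 := by
      funext k
      rw [mulVec_single_one]
      show embM _ _ k a = _
      rw [embM_apply, dif_neg (fun hc => hc.2.1 rfl), Pi.single_apply, one_apply]
    obtain ⟨e1, e2⟩ := conj_AM hfix hφ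
    have e3 : (emb (fun i => i ≠ a ∧ i ≠ b) D⁻¹)⁻¹ = emb (fun i => i ≠ a ∧ i ≠ b) D := by rw [map_inv, inv_inv]
    rw [e3] at e1 e2
    have e4 : f (emb (fun i => i ≠ a ∧ i ≠ b) D⁻¹) * f (Tr (Pi.single a 1) φ) *
        (f (emb (fun i => i ≠ a ∧ i ≠ b) D⁻¹))⁻¹ =
        f (Tr (Pi.single a 1) (φ ᵥ* (emb (fun i => i ≠ a ∧ i ≠ b) D).1)) := by
      rw [← map_inv, e3, ← map_mul, ← map_mul, e1]
    have z1 : (φ ᵥ* (emb (fun i => i ≠ a ∧ i ≠ b) D).1) ⬝ᵥ (Pi.single a 1 : ι → F) = 0 := by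
      rw [dot_single]; exact e2
    have z4 : (∑ i ∈ Finset.univ.erase a, φ i • ρ i) ⬝ᵥ (Pi.single a 1 : ι → F) = 0 := by
      rw [dot_single, Finset.sum_apply]
      refine Finset.sum_eq_zero fun l hl => ?_
      rw [Pi.smul_apply, hρ l (Finset.ne_of_mem_erase hl), smul_zero]
    rw [hval φ hφ, e4, ← map_inv, ← map_mul, ← Tr_neg z1, Tr_mul z4 (by rw [neg_dotProduct, z1, neg_zero])]
    refine tr_e_mem hF L fun j hj => ?_
    rw [Pi.add_apply, Pi.neg_apply]
    by_cases hja : j = a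
    · rw [hja, e2, (dot_single _ a).symm.trans z4, neg_zero, add_zero]
    · have e5 : (∑ i ∈ Finset.univ.erase a, φ i • ρ i) j = (φ ᵥ* (emb (fun i => i ≠ a ∧ i ≠ b) D).1) j := by
        rw [Finset.sum_apply, vecMul, dotProduct, ← Finset.add_sum_erase _ _ (Finset.mem_univ a), hφ, zero_mul,
          zero_add]
        refine Finset.sum_congr rfl fun i hi => ?_
        rw [Pi.smul_apply, smul_eq_mul]
        congr 1
        show ρ i j = embM _ N i j
        rw [embM_apply]
        by_cases hib : i = b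
        · subst hib
          rw [dif_neg (fun hc => hc.1.2 rfl), hρb j hj, one_apply_ne hj.symm]
        · rw [dif_pos ⟨⟨Finset.ne_of_mem_erase hi, hib⟩, ⟨hja, hj⟩⟩]
      rw [e5, add_neg_cancel]
  · -- faith
    intro p hp hpr
    obtain ⟨g, rfl, hg1, hg2⟩ := L.P2 p hp
    have hN1 : ∀ i, i ≠ a → i ≠ b → ∀ j, j ≠ b → (g⁻¹).1 i j = (1 : Matrix ι ι F) i j := by
      intro i hia hib j hj
      have hsa : (Pi.single i 1 : ι → F) a = 0 := Pi.single_eq_of_ne hia.symm _
      obtain ⟨e1, e2⟩ := conj_AM hg1 hsa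
      have h5 := hpr _ ⟨_, ⟨_, hsa, rfl⟩, rfl⟩
      have z1 : (Pi.single i 1 : ι → F) ⬝ᵥ (Pi.single a 1 : ι → F) = 0 := by rw [dot_single, hsa]
      have z2 : ((Pi.single i 1 : ι → F) ᵥ* (g⁻¹).1) ⬝ᵥ (Pi.single a 1 : ι → F) = 0 := by rw [dot_single, e2]
      rw [← map_inv, ← map_inv, ← map_mul, ← map_mul, ← map_mul, e1, ← Tr_neg z1,
        Tr_mul z2 (by rw [neg_dotProduct, z1, neg_zero])] at h5
      have h6 := of_mem_X L hf (by rw [Pi.add_apply, Pi.neg_apply, e2, hsa, neg_zero, add_zero]) hab h5 hj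
      rw [Pi.add_apply, Pi.neg_apply, add_neg_eq_zero, single_one_vecMul] at h6
      rw [one_apply]
      have h7 : (g⁻¹).1 i j = (Pi.single i 1 : ι → F) j := h6
      rw [h7, Pi.single_apply]
      by_cases hij : i = j
      · rw [if_pos hij, if_pos hij.symm]
      · rw [if_neg hij, if_neg (fun h => hij h.symm)]
    have hN2 : ∀ j, (g⁻¹).1 b j = (1 : Matrix ι ι F) b j := by
      intro j
      have := congrFun (inv_fix hg2) j
      rw [single_one_vecMul] at this
      have h7 : (g⁻¹).1 b j = (Pi.single b 1 : ι → F) j := this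
      rw [h7, Pi.single_apply, one_apply]
      by_cases hij : b = j
      · rw [if_pos hij, if_pos hij.symm]
      · rw [if_neg hij, if_neg (fun h => hij h.symm)]
    have hN3 : (g⁻¹).1 a a = 1 := by
      have := congrFun (inv_fix' hg1) a
      rw [mulVec_single_one, Pi.single_eq_same] at this
      exact this
    let u : ι → F := fun i => if i = a ∨ i = b then 0 else (g⁻¹).1 i b
    let s : F := (fun j => (g⁻¹).1 a j - (1 : Matrix ι ι F) a j) ⬝ᵥ u
    let φ : ι → F := (fun j => (g⁻¹).1 a j - (1 : Matrix ι ι F) a j) - s • Pi.single b 1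
    have hua : u a = 0 := if_pos (Or.inl rfl)
    have hub : u b = 0 := if_pos (Or.inr rfl)
    have hφa : φ a = 0 := by
      show (g⁻¹).1 a a - (1 : Matrix ι ι F) a a - (s • (Pi.single b 1 : ι → F)) a = 0
      rw [hN3, one_apply_eq, Pi.smul_apply, dab, smul_zero, sub_self, sub_zero]
    have hφu : φ ⬝ᵥ u = s := by
      show ((fun j => (g⁻¹).1 a j - (1 : Matrix ι ι F) a j) - s • Pi.single b 1) ⬝ᵥ u = s
      rw [sub_dotProduct, smul_dotProduct, single_dot, hub, smul_zero, sub_zero]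
    have z1 : φ ⬝ᵥ (Pi.single a 1 : ι → F) = 0 := by rw [dot_single, hφa]
    have z2 : (Pi.single b 1 : ι → F) ⬝ᵥ u = 0 := by rw [single_dot, hub]
    have key : g⁻¹ = Tr (Pi.single a 1) φ * Tr u (Pi.single b 1) := by
      apply slext
      rw [mulv, Tr_val z1, Tr_val z2, add_mul, mul_add, mul_add, one_mul, one_mul, mul_one, vecMulVec_mul_vecMulVec,
        hφu]
      ext i j
      simp only [Matrix.add_apply, vecMulVec_apply, Pi.smul_apply, smul_eq_mul]
      by_cases hia : i = a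
      · subst hia
        rw [hua, zero_mul, add_zero, Pi.single_eq_same, one_mul, one_mul]
        show _ = (1 : Matrix ι ι F) i j + (((g⁻¹).1 i j - (1 : Matrix ι ι F) i j - (s • (Pi.single b 1 : ι → F)) j) +
          s * (Pi.single b 1 : ι → F) j)
        rw [Pi.smul_apply, smul_eq_mul]
        ring
      · rw [Pi.single_eq_of_ne hia, zero_mul, zero_mul, add_zero, add_zero]
        by_cases hib : i = b
        · subst hib
          rw [hub, zero_mul, add_zero, hN2]
        · have hui : u i = (g⁻¹).1 i b := if_neg (by push Not; exact ⟨hia, hib⟩)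
          by_cases hj : j = b
          · subst hj
            rw [hui, Pi.single_eq_same, mul_one, one_apply_ne hib, zero_add]
          · rw [hN1 i hia hib j hj, Pi.single_eq_of_ne hj, mul_zero, add_zero]
    have h8 : f g⁻¹ ∈ Q := (L.Q _).2 ⟨φ, u, hφa, hub, by rw [key]⟩
    have h9 := inv_mem h8
    rwa [map_inv, inv_inv] at h9

end Cfsg.Agent.OddHalf.D7An.TwoInst
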